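import Mathlib.GroupTheory.PGroup
import Mathlib.GroupTheory.SchurZassenhaus
import Cfsg.Prelude.Def_Local
import Cfsg.Agent.Lib.Cores.PCore
import Cfsg.Agent.Lib.Blocks.PSolvable
import Cfsg.Agent.Lib.Characters.SolvablePSolvable
import Cfsg.Agent.Lib.Coprime.Hall
import Cfsg.Agent.Lib.Coprime.SchurZassenhaus
import Cfsg.Agent.Lib.PLength.Basic

/-!
Solvable groups with trivial odd core, at least two involutions and one class of involutions: the
involutions form, with `1`, a normal elementary abelian subgroup central in `O₂`, and if an element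
outside `O₂` has its square in `O₂` then every normal subgroup of odd index over `O₂` fixes an
involution.
-/

set_option autoImplicit false

namespace Cfsg.Agent.Lib.OneClassInvolutions

open Subgroup
open scoped Pointwise

variable {G : Type*} [Group G]

/-- A solvable group without odd core, with more than one involution, all of them conjugate. -/
structure Frame (G : Type*) [Group G] : Prop where
  solv : Group.IsSolvable G
  core : Cfsg.pPrimeCore 2 G = ⊥
  two : ∃ x y : G, x ≠ y ∧ x ≠ 1 ∧ x * x = 1 ∧ y ≠ 1 ∧ y * y = 1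
  conj : ∀ x y : G, x ≠ 1 → x * x = 1 → y ≠ 1 → y * y = 1 → ∃ g : G, g * x * g⁻¹ = y

variable (G) in
/-- The elements of order at most two in the centre of `O₂`. -/
def invSub : Subgroup G where
  carrier := {x | x ∈ Cfsg.pCore 2 G ∧ (∀ y ∈ Cfsg.pCore 2 G, y * x = x * y) ∧ x * x = 1}
  one_mem' := ⟨one_mem _, fun y _ => by simp, one_mul 1⟩
  mul_mem' := by
    rintro a b ⟨ha, hac, ha2⟩ ⟨hb, hbc, hb2⟩
    refine ⟨mul_mem ha hb, fun y hy => by rw [← mul_assoc, hac y hy, mul_assoc, hbc y hy, mul_assoc], ?_⟩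
    calc a * b * (a * b) = a * (b * a) * b := by group
      _ = a * (a * b) * b := by rw [hac b hb]
      _ = (a * a) * (b * b) := by group
      _ = 1 := by rw [ha2, hb2, one_mul]
  inv_mem' := by
    rintro a ⟨ha, hac, ha2⟩
    have e : a⁻¹ = a := inv_eq_of_mul_eq_one_right ha2
    rw [e]; exact ⟨ha, hac, ha2⟩

theorem mem_invSub {x : G} : x ∈ invSub G ↔
    x ∈ Cfsg.pCore 2 G ∧ (∀ y ∈ Cfsg.pCore 2 G, y * x = x * y) ∧ x * x = 1 := Iff.rfl

theorem invSub_le : invSub G ≤ Cfsg.pCore 2 G := fun _ h => h.1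

instance invSub_normal : (invSub G).Normal := by
  have := Cfsg.pCore_normal 2 G
  refine ⟨fun x hx g => ⟨this.conj_mem x hx.1 g, fun y hy => ?_, ?_⟩⟩
  · have h1 := hx.2.1 _ (this.conj_mem y hy g⁻¹)
    rw [inv_inv] at h1
    calc y * (g * x * g⁻¹) = g * ((g⁻¹ * y * g) * x) * g⁻¹ := by group
      _ = g * (x * (g⁻¹ * y * g)) * g⁻¹ := by rw [h1]
      _ = g * x * g⁻¹ * y := by group
  · calc g * x * g⁻¹ * (g * x * g⁻¹) = g * (x * x) * g⁻¹ := by group
      _ = 1 := by rw [hx.2.2]; group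

theorem exists_order_two [Finite G] {A : Subgroup G} {x : G} (hA : IsPGroup 2 A) (hx : x ∈ A)
    (h1 : x ≠ 1) : ∃ y ∈ zpowers x, y ≠ 1 ∧ y * y = 1 := by
  have hd : 2 ∣ Nat.card (zpowers x) := by
    obtain ⟨k, hk⟩ := IsPGroup.iff_card.mp (hA.to_le ((zpowers_le).mpr hx))
    rcases Nat.eq_zero_or_pos k with h | h
    · exact absurd (zpowers_eq_bot.mp (eq_bot_of_card_eq _ (by rw [hk, h, pow_zero]))) h1
    · rw [hk]; exact dvd_pow_self 2 h.ne'
  obtain ⟨y, hy⟩ := exists_prime_orderOf_dvd_card' 2 hd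
  refine ⟨y, y.2, fun e => ?_, ?_⟩
  · rw [show y = 1 from Subtype.ext e, orderOf_one] at hy
    exact absurd hy (by omega)
  · have := pow_orderOf_eq_one y
    rw [hy, pow_two] at this
    exact congrArg Subtype.val this

namespace Frame

variable [Finite G] (F : Frame G)

include F in
theorem centralizer_pCore_le : centralizer (Cfsg.pCore 2 G : Set G) ≤ Cfsg.pCore 2 G := by
  have := F.solv
  exact Blocks.centralizer_pCore_le_of_isPSolvable 2
    (Characters.isPSolvable_of_isSolvable 2) F.core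

include F in
theorem exists_mem_invSub : ∃ v ∈ invSub G, v ≠ 1 := by
  have hne : Cfsg.pCore 2 G ≠ ⊥ := by
    intro h
    obtain ⟨x, -, -, hx, -⟩ := F.two
    have := F.centralizer_pCore_le (show x ∈ centralizer (Cfsg.pCore 2 G : Set G) by
      rw [h, mem_centralizer_iff]
      intro y hy
      rw [SetLike.mem_coe, mem_bot] at hy
      simp [hy])
    exact hx (mem_bot.mp (h ▸ this))
  have : Nontrivial (Cfsg.pCore 2 G) := (nontrivial_iff_ne_bot _).mpr hne
  have hp := Cores.pCore_isPGroup 2 G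
  have : Fact (Nat.Prime 2) := ⟨Nat.prime_two⟩
  obtain ⟨z, hz, hz1⟩ := (bot_or_exists_ne_one _).resolve_left hp.bot_lt_center.ne'
  obtain ⟨y, hy, hy1, hy2⟩ := exists_order_two (A := Cfsg.pCore 2 G) hp z.2
    (fun e => hz1 (Subtype.ext e))
  refine ⟨y, ⟨(zpowers_le).mpr z.2 hy, fun p hp' => ?_, hy2⟩, hy1⟩
  have hle : zpowers (z : G) ≤ centralizer {p} := (zpowers_le).mpr (by
    rw [mem_centralizer_singleton_iff]
    exact (congrArg Subtype.val (mem_center_iff.mp hz ⟨p, hp'⟩)).symm)
  exact (mem_centralizer_singleton_iff.mp (hle hy)).symm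

include F in
theorem mem_invSub_iff {x : G} : x ∈ invSub G ↔ x * x = 1 := by
  refine ⟨fun h => h.2.2, fun h => ?_⟩
  by_cases hx : x = 1
  · rw [hx]; exact one_mem _
  obtain ⟨v, hv, hv1⟩ := F.exists_mem_invSub
  obtain ⟨g, rfl⟩ := F.conj v x hv1 hv.2.2 hx h
  exact (invSub_normal (G := G)).conj_mem v hv g

theorem commute_invSub {v w : G} (hv : v ∈ invSub G) (hw : w ∈ invSub G) : v * w = w * v :=
  hw.2.1 v hv.1

include F in
theorem eq_one_of_sq_eq_one_of_not {A : Subgroup G} (hA : IsPGroup 2 A)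
    (h : ∀ v ∈ invSub G, v ∈ A → v = 1) : A = ⊥ := by
  by_contra hne
  obtain ⟨x, hx, hx1⟩ := (bot_or_exists_ne_one _).resolve_left hne
  obtain ⟨y, hy, hy1, hy2⟩ := exists_order_two hA hx hx1
  exact hy1 (h y (F.mem_invSub_iff.mpr hy2) ((zpowers_le).mpr hx hy))

include F in
/-- A normal subgroup centralizing one involution centralizes all. -/
theorem le_centralizer_of_fixed {N : Subgroup G} [N.Normal] {v : G} (hv : v ∈ invSub G) (hv1 : v ≠ 1)
    (h : ∀ n ∈ N, n * v = v * n) : N ≤ centralizer (invSub G : Set G) := by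
  intro n hn
  rw [mem_centralizer_iff]
  intro w hw
  by_cases hw1 : w = 1
  · simp [hw1]
  obtain ⟨g, rfl⟩ := F.conj v w hv1 hv.2.2 hw1 (mem_invSub.mp hw).2.2
  have h1 := h _ (‹N.Normal›.conj_mem n hn g⁻¹)
  rw [inv_inv] at h1
  calc g * v * g⁻¹ * n = g * (v * (g⁻¹ * n * g)) * g⁻¹ := by group
    _ = g * (g⁻¹ * n * g * v) * g⁻¹ := by rw [h1]
    _ = n * (g * v * g⁻¹) := by group

theorem pCore_le_centralizer : Cfsg.pCore 2 G ≤ centralizer (invSub G : Set G) := fun p hp => by
  rw [mem_centralizer_iff]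
  exact fun w hw => ((mem_invSub.mp hw).2.1 p hp).symm

include F in
/-- If `t ∉ O₂` has its square in `O₂`, a subgroup of odd index over `O₂` normalized by `t`
centralizes some involution. -/
theorem no_lift {U : Subgroup G} (hPU : Cfsg.pCore 2 G ≤ U)
    (hodd : Odd ((Cfsg.pCore 2 G).relIndex U))
    (hfree : ∀ v ∈ invSub G, (∀ u ∈ U, u * v = v * u) → v = 1)
    {t : G} (ht : t ∉ Cfsg.pCore 2 G) (ht2 : t * t ∈ Cfsg.pCore 2 G)
    (htU : t ∈ normalizer (U : Set G)) : False := by
  have : Fact (Nat.Prime 2) := ⟨Nat.prime_two⟩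
  set P := Cfsg.pCore 2 G with hP
  have hPn : P.Normal := Cfsg.pCore_normal 2 G
  obtain ⟨k, hk⟩ := IsPGroup.iff_card.mp (Cores.pCore_isPGroup 2 G)
  have hcop : (Nat.card (P.subgroupOf U)).Coprime (P.subgroupOf U).index := by
    rw [Nat.card_congr (subgroupOfEquivOfLe hPU).toEquiv, hk]
    exact Nat.Coprime.pow_left k (Nat.coprime_two_left.mpr hodd)
  obtain ⟨X₀, hX₀⟩ := exists_right_complement'_of_coprime hcop
  set X := X₀.map U.subtype with hX
  have hXU : X ≤ U := map_subtype_le _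
  have hsup : P ⊔ X = U := by
    have := congrArg (Subgroup.map U.subtype) hX₀.sup_eq_top
    rwa [Subgroup.map_sup, subgroupOf_map_subtype, inf_eq_left.mpr hPU, ← MonoidHom.range_eq_map,
      range_subtype] at this
  have hinf : P ⊓ X = ⊥ := by
    rw [eq_bot_iff]
    rintro x ⟨hxP, y, hy, rfl⟩
    have h1 : y ∈ P.subgroupOf U ⊓ X₀ := ⟨mem_subgroupOf.mpr hxP, hy⟩
    rw [hX₀.disjoint.eq_bot, mem_bot] at h1
    rw [h1]; exact one_mem _
  have hcardX : Nat.card X = P.relIndex U := by
    rw [hX, card_map_of_injective U.subtype_injective]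
    have := hX₀.index_eq_card
    exact (hX₀.symm.index_eq_card).symm
  have hcopX : (Nat.card P).Coprime (Nat.card X) := by
    rw [hcardX, hk]
    exact Nat.Coprime.pow_left k (Nat.coprime_two_left.mpr hodd)
  have hXn : X ≤ normalizer (P : Set G) := by rw [normalizer_eq_top]; exact le_top
  have hPs : Group.IsSolvable P := by have := F.solv; infer_instance
  obtain ⟨p, hp, hpX⟩ := Coprime.exists_conj_eq_of_le_sup hXn hcopX (Or.inl hPs)
    (K := MulAut.conj t • X) (Nat.card_congr (equivSMul (MulAut.conj t) X).symm.toEquiv) (by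
      rw [hsup]
      intro x hx
      obtain ⟨y, hy, rfl⟩ := hx
      exact (mem_normalizer_iff.mp htU y).mp (hXU hy))
  set t' := p⁻¹ * t with ht'
  have ht'X : ∀ x, x ∈ X ↔ t' * x * t'⁻¹ ∈ X := by
    intro x
    have e : MulAut.conj p⁻¹ • MulAut.conj t • X = X := by
      rw [← hpX, smul_smul, ← map_mul, inv_mul_cancel, map_one, one_smul]
    rw [smul_smul, ← map_mul] at e
    conv_rhs => rw [← e]
    rw [mem_pointwise_smul_iff_inv_smul_mem]
    simp [ht', MulAut.smul_def, mul_assoc]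
  have ht'n : t' ∈ normalizer (X : Set G) := mem_normalizer_iff.mpr ht'X
  have ht'2 : t' * t' ∈ P := by
    have h1 : t * p⁻¹ * t⁻¹ ∈ P := hPn.conj_mem _ (inv_mem hp) t
    have e : t' * t' = p⁻¹ * (t * p⁻¹ * t⁻¹) * (t * t) := by rw [ht']; group
    rw [e]
    exact P.mul_mem (P.mul_mem (inv_mem hp) h1) ht2
  have hdc : ∀ d ∈ P, d ∈ normalizer (X : Set G) → ∀ x ∈ X, d * x = x * d := by
    intro d hd hdn x hx
    have h1 : d * x * d⁻¹ * x⁻¹ ∈ P ⊓ X := by
      refine ⟨?_, X.mul_mem ((mem_normalizer_iff.mp hdn x).mp hx) (X.inv_mem hx)⟩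
      have e : d * x * d⁻¹ * x⁻¹ = d * (x * d⁻¹ * x⁻¹) := by group
      rw [e]
      exact P.mul_mem hd (hPn.conj_mem _ (inv_mem hd) x)
    rw [hinf, mem_bot, mul_inv_eq_one, mul_inv_eq_iff_eq_mul] at h1
    exact h1
  have htt : t' * t' = 1 := by
    by_contra hne
    obtain ⟨y, hy, hy1, hy2⟩ := exists_order_two (Cores.pCore_isPGroup 2 G) ht'2 hne
    have hyX : ∀ x ∈ X, y * x = x * y := hdc y ((zpowers_le).mpr ht'2 hy)
      ((zpowers_le).mpr (mul_mem ht'n ht'n) hy)
    refine hy1 (hfree y (F.mem_invSub_iff.mpr hy2) ?_)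
    intro u hu
    have hle : U ≤ centralizer {y} := by
      rw [← hsup]
      refine sup_le (fun q hq => mem_centralizer_singleton_iff.mpr ?_)
        (fun x hx => mem_centralizer_singleton_iff.mpr (hyX x hx).symm)
      exact (F.mem_invSub_iff.mpr hy2).2.1 q hq
    exact mem_centralizer_singleton_iff.mp (hle hu)
  refine ht ?_
  have e : t = p * t' := by rw [ht']; group
  rw [e]
  exact P.mul_mem hp (F.mem_invSub_iff.mpr htt).1

include F in
theorem centralizer_invSub_ne_top : centralizer (invSub G : Set G) ≠ ⊤ := by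
  intro h
  obtain ⟨x, y, hxy, hx1, hx, hy1, hy⟩ := F.two
  obtain ⟨g, hg⟩ := F.conj x y hx1 hx hy1 hy
  have hgc : g ∈ centralizer (invSub G : Set G) := h ▸ mem_top g
  have := mem_centralizer_iff.mp hgc x (F.mem_invSub_iff.mpr hx)
  exact hxy (by rw [← hg, ← this, mul_inv_cancel_right])

include F in
/-- If `O₂` has even index, so does it in the centralizer of the involutions. -/
theorem two_dvd_relIndex (h2 : 2 ∣ (Cfsg.pCore 2 G).index) :
    2 ∣ (Cfsg.pCore 2 G).relIndex (centralizer (invSub G : Set G)) := by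
  by_contra hodd
  have : Fact (Nat.Prime 2) := ⟨Nat.prime_two⟩
  have := F.solv
  set P := Cfsg.pCore 2 G with hP
  have : P.Normal := Cfsg.pCore_normal 2 G
  set C := centralizer (invSub G : Set G) with hC
  have : Nontrivial (G ⧸ C) := QuotientGroup.nontrivial_iff.mpr F.centralizer_invSub_ne_top
  obtain ⟨r, N, hr, hNn, hN0, -, hNp, -⟩ := Coprime.exists_normal_isPGroup_isMulCommutative (G ⧸ C)
  set M := N.comap (QuotientGroup.mk' C) with hM
  have hCM : C ≤ M := fun c hc => by
    rw [hM, mem_comap, show QuotientGroup.mk' C c = 1 from (QuotientGroup.eq_one_iff c).mpr hc]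
    exact one_mem _
  have hnotle : ¬ M ≤ C := fun h => hN0 (by
    rw [← map_comap_eq_self_of_surjective (QuotientGroup.mk'_surjective C) N, ← hM,
      Subgroup.map_eq_bot_iff, QuotientGroup.ker_mk']
    exact h)
  have : M.Normal := hNn.comap _
  have hfree : ∀ v ∈ invSub G, (∀ u ∈ M, u * v = v * u) → v = 1 := fun v hv h => by
    by_contra hv1
    exact hnotle (F.le_centralizer_of_fixed hv hv1 h)
  rcases hr.eq_two_or_odd' with rfl | hrodd
  · obtain ⟨v, hv, hv1⟩ := F.exists_mem_invSub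
    let ψ : G ⧸ C →* MulAut (invSub G) := QuotientGroup.lift C (MulAut.conjNormal) (fun c hc => by
      refine MulEquiv.ext fun w => Subtype.ext ?_
      show c * (w : G) * c⁻¹ = w
      rw [← mem_centralizer_iff.mp hc w w.2, mul_inv_cancel_right])
    letI : MulAction N (invSub G) := MulAction.compHom _ (ψ.comp N.subtype)
    have hcard : 2 ∣ Nat.card (invSub G) := by
      have h1 : orderOf (⟨v, hv⟩ : invSub G) = 2 := by
        refine orderOf_eq_prime ?_ (fun e => hv1 (congrArg Subtype.val e))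
        rw [pow_two]; exact Subtype.ext hv.2.2
      exact h1 ▸ orderOf_dvd_natCard _
    obtain ⟨b, hb, hb1⟩ := hNp.exists_fixed_point_of_prime_dvd_card_of_fixed_point _ hcard
      (a := (1 : invSub G)) (fun n => map_one (ψ.comp N.subtype n))
    refine hb1 (Subtype.ext (hfree b b.2 fun u hu => ?_)).symm
    have h3 : u * (b : G) * u⁻¹ = b := congrArg Subtype.val (hb ⟨QuotientGroup.mk' C u, hu⟩)
    exact mul_inv_eq_iff_eq_mul.mp h3
  · obtain ⟨u, hu⟩ := exists_prime_orderOf_dvd_card' (G := G ⧸ P) 2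
      (by rwa [← index_eq_card])
    obtain ⟨t, rfl⟩ := QuotientGroup.mk'_surjective P u
    have ht : t ∉ P := fun h => by
      rw [show QuotientGroup.mk' P t = 1 from (QuotientGroup.eq_one_iff t).mpr h, orderOf_one] at hu
      omega
    have ht2 : t * t ∈ P := by
      refine (QuotientGroup.eq_one_iff (N := P) _).mp ?_
      show QuotientGroup.mk' P (t * t) = 1
      rw [map_mul, ← pow_two, ← hu, pow_orderOf_eq_one]
    refine F.no_lift (pCore_le_centralizer.trans hCM) ?_ hfree ht ht2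
      (by rw [normalizer_eq_top]; exact mem_top t)
    rw [← relIndex_mul_relIndex P C M pCore_le_centralizer hCM]
    refine Odd.mul (Nat.not_even_iff_odd.mp (fun h => hodd (even_iff_two_dvd.mp h))) ?_
    have : Fact r.Prime := ⟨hr⟩
    obtain ⟨k, hk⟩ := IsPGroup.iff_card.mp hNp
    rw [hM, PLength.relIndex_comap_mk', hk]
    exact hrodd.pow

end Frame

end Cfsg.Agent.Lib.OneClassInvolutions
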