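import Mathlib.GroupTheory.Perm.Basic
import Mathlib.Data.Finite.Perm
import Mathlib.Algebra.BigOperators.Group.Finset.Basic
import Cfsg.Agent.Lib.CoprimeGen.Abelian

/-!
An elementary abelian group `A` of odd order acting fixed-point-freely on a group `W` of exponent two
that carries an anisotropic quadratic map to `T` preserved by `A`: the fixed point groups of the
hyperplanes of `A` are mutually orthogonal, there are at most `log₂ |T|` of them, and any group
normalizing `A` and an elementary abelian group `E` of isometries permutes them with kernel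
centralizing `E`.
-/

set_option autoImplicit false

namespace Cfsg.Agent.Lib.OneClassInvolutions

open Subgroup
open scoped Pointwise

variable {Γ W T : Type*} [Group Γ] [CommGroup W] [CommGroup T]

/-- The polar form of a map between groups of exponent two. -/
def pol (q : W → T) (x y : W) : T := q (x * y) * q x * q y

/-- An anisotropic quadratic map between groups of exponent two. -/
structure AnisoForm (q : W → T) : Prop where
  expW : ∀ w : W, w * w = 1
  expT : ∀ t : T, t * t = 1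
  aniso : ∀ w : W, q w = 1 → w = 1
  bil : ∀ x y z : W, pol q (x * y) z = pol q x z * pol q y z

namespace AnisoForm

variable {q : W → T} (hq : AnisoForm q)

theorem symm (x y : W) : pol q x y = pol q y x := by
  unfold pol
  rw [mul_comm x y, mul_right_comm]

include hq in
theorem map_one : q 1 = 1 := by
  have h := hq.bil 1 1 1
  simp only [pol, one_mul] at h
  have e : q 1 * q 1 * q 1 = q 1 := by rw [hq.expT, one_mul]
  rw [e, hq.expT] at h
  exact h

include hq in
theorem map_mul (x y : W) : q (x * y) = q x * q y * pol q x y := by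
  unfold pol
  calc q (x * y) = q (x * y) * ((q x * q x) * (q y * q y)) := by rw [hq.expT, hq.expT, one_mul, mul_one]
    _ = _ := by ac_rfl

include hq in
theorem pol_self (x : W) : pol q x x = 1 := by
  unfold pol
  rw [hq.expW, hq.map_one, one_mul, hq.expT]

include hq in
theorem pol_one_left (y : W) : pol q 1 y = 1 := by
  unfold pol
  rw [one_mul, hq.map_one, mul_one, hq.expT]

include hq in
theorem pol_one_right (x : W) : pol q x 1 = 1 := by rw [symm, hq.pol_one_left]

include hq in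
theorem bil_right (x y z : W) : pol q x (y * z) = pol q x y * pol q x z := by
  rw [symm x, hq.bil, symm y, symm z]

include hq in
theorem eq_of_pol_eq_one {x y : W} (hxy : q x = q y) (h : pol q x y = 1) : x = y := by
  have h1 : x * y = 1 := hq.aniso _ (by rw [hq.map_mul, h, hxy, mul_one, hq.expT])
  rw [← mul_one x, ← hq.expW y, ← mul_assoc, h1, one_mul]

end AnisoForm

theorem pol_isometry {q : W → T} (σ : MulAut W) (hσ : ∀ w, q (σ w) = q w) (x y : W) :
    pol q (σ x) (σ y) = pol q x y := by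
  unfold pol
  rw [← map_mul, hσ, hσ, hσ]

section main

variable [Finite Γ] [Finite W] [Finite T] (φ : Γ →* MulAut W) (A : Subgroup Γ)

/-- The maximal subgroups of `A` with nontrivial fixed points. -/
def hyps : Set (Subgroup Γ) :=
  {B | B ≤ A ∧ B ≠ A ∧ (∀ C : Subgroup Γ, B < C → C ≤ A → C = A) ∧ CoprimeGen.fix φ B ≠ ⊥}

variable {φ A}

theorem sup_eq_of_ne {B B' : Subgroup Γ} (hB : B ∈ hyps φ A) (hB' : B' ∈ hyps φ A) (h : B ≠ B') :
    B ⊔ B' = A := by
  refine hB.2.2.1 _ (lt_of_le_of_ne le_sup_left fun e => ?_) (sup_le hB.1 hB'.1)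
  have hle : B' ≤ B := e ▸ le_sup_right
  rcases eq_or_lt_of_le hle with h' | h'
  · exact h h'.symm
  · exact hB.2.1 (hB'.2.2.1 B h' hB.1)

theorem fix_inf (hfpf : ∀ w : W, (∀ a ∈ A, φ a w = w) → w = 1) {B B' : Subgroup Γ} (h : B ⊔ B' = A)
    {w : W} (h1 : w ∈ CoprimeGen.fix φ B) (h2 : w ∈ CoprimeGen.fix φ B') : w = 1 := by
  refine hfpf w fun a ha => ?_
  have hle : B ⊔ B' ≤ (MulAction.stabilizer (MulAut W) w).comap φ := sup_le h1 h2
  exact hle (h.symm ▸ ha)

/-- `x ↦ φ a x * x` on the fixed points of a maximal subgroup not containing `a`. -/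
theorem exists_preimage (hexp : ∀ w : W, w * w = 1) (hA : ∀ a ∈ A, ∀ b ∈ A, a * b = b * a)
    (hfpf : ∀ w : W, (∀ a ∈ A, φ a w = w) → w = 1) {B : Subgroup Γ} (hB : B ∈ hyps φ A) {a : Γ}
    (ha : a ∈ A) (haB : a ∉ B) {v : W} (hv : v ∈ CoprimeGen.fix φ B) :
    ∃ x ∈ CoprimeGen.fix φ B, φ a x * x = v := by
  have hmem : ∀ x ∈ CoprimeGen.fix φ B, φ a x * x ∈ CoprimeGen.fix φ B := by
    intro x hx
    refine mul_mem (fun b hb => ?_) hx
    rw [← MulAut.mul_apply, ← map_mul, ← hA a ha b (hB.1 hb), map_mul, MulAut.mul_apply, hx b hb]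
  have hsup : B ⊔ zpowers a = A :=
    hB.2.2.1 _ (lt_of_le_of_ne le_sup_left fun e => haB (e ▸ mem_sup_right (mem_zpowers a)))
      (sup_le hB.1 ((zpowers_le).mpr ha))
  let f : CoprimeGen.fix φ B →* CoprimeGen.fix φ B :=
    { toFun := fun x => ⟨φ a x * x, hmem x x.2⟩
      map_one' := Subtype.ext (by simp)
      map_mul' := fun x y => Subtype.ext (by
        show φ a ((x : W) * y) * ((x : W) * y) = (φ a x * x) * (φ a y * y)
        rw [map_mul]; ac_rfl) }
  have hinj : Function.Injective f := by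
    rw [injective_iff_map_eq_one]
    intro x hx
    have hx' : φ a (x : W) * x = 1 := congrArg Subtype.val hx
    have hfix : φ a (x : W) = x := by
      rw [← mul_one (φ a (x : W)), ← hexp x, ← mul_assoc, hx', one_mul]
    refine Subtype.ext (fix_inf hfpf hsup x.2 ?_)
    have hle : zpowers a ≤ (MulAction.stabilizer (MulAut W) (x : W)).comap φ :=
      (zpowers_le).mpr hfix
    exact fun b hb => hle hb
  obtain ⟨x, hx⟩ := Finite.surjective_of_injective hinj ⟨v, hv⟩
  exact ⟨x, x.2, congrArg Subtype.val hx⟩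

theorem orthogonal {q : W → T} (hq : AnisoForm q) (hA : ∀ a ∈ A, ∀ b ∈ A, a * b = b * a)
    (hfpf : ∀ w : W, (∀ a ∈ A, φ a w = w) → w = 1) (hqA : ∀ a ∈ A, ∀ w, q (φ a w) = q w)
    {B B' : Subgroup Γ} (hB : B ∈ hyps φ A) (hB' : B' ∈ hyps φ A) (hne : B ≠ B')
    {u v : W} (hu : u ∈ CoprimeGen.fix φ B) (hv : v ∈ CoprimeGen.fix φ B') : pol q u v = 1 := by
  obtain ⟨a, haB, haB'⟩ : ∃ a ∈ B, a ∉ B' := by
    by_contra! hc
    rcases eq_or_lt_of_le (show B ≤ B' from hc) with h | h
    · exact hne h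
    · exact hB'.2.1 (hB.2.2.1 B' h hB'.1)
  obtain ⟨x, -, rfl⟩ := exists_preimage hq.expW hA hfpf hB' (hB.1 haB) haB' hv
  have h1 : pol q u (φ a x) = pol q u x := by
    conv_lhs => rw [← hu a haB]
    exact pol_isometry _ (hqA a (hB.1 haB)) u x
  rw [hq.bil_right, h1, hq.expT]

/-- Nonzero vectors in different fixed point groups are independent. -/
theorem eq_one_of_prod (hexp : ∀ w : W, w * w = 1) (hA : ∀ a ∈ A, ∀ b ∈ A, a * b = b * a)
    (hfpf : ∀ w : W, (∀ a ∈ A, φ a w = w) → w = 1) :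
    ∀ (K : Finset (hyps φ A)) (u : hyps φ A → W),
      (∀ B : hyps φ A, u B ∈ CoprimeGen.fix φ (B : Subgroup Γ)) → ∏ B ∈ K, u B = 1 →
        ∀ B ∈ K, u B = 1 := by
  classical
  intro K
  induction K using Finset.induction with
  | empty => exact fun u _ _ B hB => absurd hB (Finset.notMem_empty B)
  | @insert B1 K hB1 ih =>
    intro u hu hprod
    rw [Finset.prod_insert hB1] at hprod
    have hK : ∀ B ∈ K, u B = 1 := by
      intro B0 hB0
      have hne : (B1 : Subgroup Γ) ≠ B0 := fun e => hB1 (Subtype.ext e ▸ hB0)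
      obtain ⟨a, ha1, ha0⟩ : ∃ a ∈ (B1 : Subgroup Γ), a ∉ (B0 : Subgroup Γ) := by
        by_contra! hc
        rcases eq_or_lt_of_le (show (B1 : Subgroup Γ) ≤ B0 from hc) with h | h
        · exact hne h
        · exact B0.2.2.1 (B1.2.2.2.1 B0 h B0.2.1)
      have haA : a ∈ A := B1.2.1 ha1
      let u' : hyps φ A → W := fun B => φ a (u B) * u B
      have hu' : ∀ B : hyps φ A, u' B ∈ CoprimeGen.fix φ (B : Subgroup Γ) := by
        intro B
        refine mul_mem (fun b hb => ?_) (hu B)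
        rw [← MulAut.mul_apply, ← map_mul, ← hA a haA b (B.2.1 hb), map_mul, MulAut.mul_apply,
          hu B b hb]
      have hprod' : ∏ B ∈ K, u' B = 1 := by
        have h1 : φ a (u B1) = u B1 := hu B1 a ha1
        have h2 : ∏ B ∈ K, u B = u B1 := by
          rw [← one_mul (∏ B ∈ K, u B), ← hexp (u B1), mul_assoc, hprod, mul_one]
        rw [Finset.prod_mul_distrib, ← map_prod, h2, h1, hexp]
      have h3 : φ a (u B0) * u B0 = 1 := ih u' hu' hprod' B0 hB0
      have hfix : φ a (u B0) = u B0 := by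
        rw [← mul_one (φ a (u B0)), ← hexp (u B0), ← mul_assoc, h3, one_mul]
      refine fix_inf hfpf (B := (B0 : Subgroup Γ)) (B' := zpowers a)
        (B0.2.2.2.1 _ (lt_of_le_of_ne le_sup_left fun e => ha0 (e ▸ mem_sup_right (mem_zpowers a)))
          (sup_le B0.2.1 ((zpowers_le).mpr haA))) (hu B0) ?_
      have hle : zpowers a ≤ (MulAction.stabilizer (MulAut W) (u B0)).comap φ :=
        (zpowers_le).mpr hfix
      exact fun b hb => hle hb
    intro B hB
    rcases Finset.mem_insert.mp hB with rfl | hB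
    · rwa [Finset.prod_eq_one hK, mul_one] at hprod
    · exact hK B hB

theorem pol_prod {q : W → T} (hq : AnisoForm q) {ι : Type*} (S : Finset ι) (u : ι → W) (x : W) :
    pol q (∏ i ∈ S, u i) x = ∏ i ∈ S, pol q (u i) x := by
  classical
  induction S using Finset.induction with
  | empty => simp [hq.pol_one_left]
  | @insert i S hi ih => rw [Finset.prod_insert hi, Finset.prod_insert hi, hq.bil, ih]

/-- There are at most `log₂ |T|` maximal subgroups with nontrivial fixed points. -/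
theorem two_pow_card_hyps_le {q : W → T} (hq : AnisoForm q)
    (hA : ∀ a ∈ A, ∀ b ∈ A, a * b = b * a) (hfpf : ∀ w : W, (∀ a ∈ A, φ a w = w) → w = 1)
    (hqA : ∀ a ∈ A, ∀ w, q (φ a w) = q w) : 2 ^ Nat.card (hyps φ A) ≤ Nat.card T := by
  classical
  have := Fintype.ofFinite (hyps φ A)
  have hex : ∀ B : hyps φ A, ∃ u ∈ CoprimeGen.fix φ (B : Subgroup Γ), u ≠ 1 := fun B =>
    (bot_or_exists_ne_one _).resolve_left B.2.2.2.2
  choose u hu hu1 using hex
  let f : Finset (hyps φ A) → T := fun I => q (∏ B ∈ I, u B)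
  have hcross : ∀ I J : Finset (hyps φ A), pol q (∏ B ∈ I, u B) (∏ B ∈ J, u B) = 1 := by
    intro I J
    rw [pol_prod hq]
    refine Finset.prod_eq_one fun B _ => ?_
    rw [AnisoForm.symm, pol_prod hq]
    refine Finset.prod_eq_one fun B' _ => ?_
    by_cases h : B' = B
    · rw [h, hq.pol_self]
    · exact orthogonal hq hA hfpf hqA B'.2 B.2 (fun e => h (Subtype.ext e)) (hu B') (hu B)
  have hinj : Function.Injective f := by
    intro I J hIJ
    have h1 : ∏ B ∈ I, u B = ∏ B ∈ J, u B := hq.eq_of_pol_eq_one hIJ (hcross I J)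
    have h2 : ∏ B ∈ I \ J, u B = ∏ B ∈ J \ I, u B := by
      have e1 := Finset.prod_inter_mul_prod_diff I J u
      have e2 := Finset.prod_inter_mul_prod_diff J I u
      rw [Finset.inter_comm J I] at e2
      rw [← e1, ← e2] at h1
      exact mul_left_cancel h1
    have h3 : ∏ B ∈ (I \ J) ∪ (J \ I), u B = 1 := by
      rw [Finset.prod_union disjoint_sdiff_sdiff, h2, hq.expW]
    have h4 := eq_one_of_prod hq.expW hA hfpf _ u hu h3
    ext B
    constructor <;> intro hB <;> by_contra hB'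
    · exact hu1 B (h4 B (Finset.mem_union_left _ (Finset.mem_sdiff.mpr ⟨hB, hB'⟩)))
    · exact hu1 B (h4 B (Finset.mem_union_right _ (Finset.mem_sdiff.mpr ⟨hB, hB'⟩)))
  have := Nat.card_le_card_of_injective f hinj
  rwa [Nat.card_eq_fintype_card (α := Finset _), Fintype.card_finset, ← Nat.card_eq_fintype_card] at this

theorem iSup_fix_hyps_eq_top {s : ℕ} (hs : s.Prime) (hA : ∀ a ∈ A, ∀ b ∈ A, a * b = b * a)
    (hAs : ∀ a ∈ A, a ^ s = 1) (hcop : (Nat.card A).Coprime (Nat.card W))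
    (hfpf : ∀ w : W, (∀ a ∈ A, φ a w = w) → w = 1) :
    ⨆ B ∈ hyps φ A, CoprimeGen.fix φ B = ⊤ := by
  letI : CommGroup A := { (inferInstance : Group A) with
    mul_comm := fun x y => Subtype.ext (hA x x.2 y y.2) }
  have h := CoprimeGen.iSup_fix_eq_top (Nat.card A) A W (φ.comp A.subtype) rfl hcop
  rw [eq_top_iff, ← h]
  refine iSup₂_le fun B' hB' => ?_
  obtain ⟨a, ha⟩ := hB'
  intro w hw
  by_cases hw1 : w = 1
  · rw [hw1]; exact one_mem _
  set B := B'.map A.subtype with hB
  have hwB : w ∈ CoprimeGen.fix φ B := by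
    rintro _ ⟨b, hb, rfl⟩
    exact hw b hb
  have hne : B ≠ A := fun e => hw1 (hfpf w fun a ha => hwB a (e.symm ▸ ha))
  have hgen : A ≤ B ⊔ zpowers (a : Γ) := by
    have := map_mono (f := A.subtype) ha.ge
    rwa [Subgroup.map_sup, MonoidHom.map_zpowers, ← MonoidHom.range_eq_map, range_subtype] at this
  refine mem_iSup_of_mem B (mem_iSup_of_mem ⟨map_subtype_le _, hne, fun C hBC hCA => ?_,
    fun e => hw1 (mem_bot.mp (e ▸ hwB))⟩ hwB)
  refine le_antisymm hCA (hgen.trans (sup_le hBC.le ((zpowers_le).mpr ?_)))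
  obtain ⟨c, hcC, hcB⟩ := SetLike.exists_of_lt hBC
  obtain ⟨b, hb, z, hz, rfl⟩ :=
    mem_sup.mp (show (⟨c, hCA hcC⟩ : A) ∈ B' ⊔ zpowers a from ha.symm ▸ mem_top _) |>
      (fun ⟨b, hb, z, hz, e⟩ => (⟨(b : Γ), ⟨b, hb, rfl⟩, (z : Γ), ⟨z, hz, rfl⟩, congrArg Subtype.val e⟩ :
        ∃ b ∈ B, ∃ z ∈ (zpowers a).map A.subtype, b * z = c))
  obtain ⟨z', hz', rfl⟩ := hz
  obtain ⟨j, rfl⟩ := mem_zpowers_iff.mp hz'
  have hjC : (a : Γ) ^ j ∈ C := by
    have := C.mul_mem (C.inv_mem (hBC.le hb)) hcC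
    simpa using this
  have hndvd : ¬ (s : ℤ) ∣ j := by
    rintro ⟨k, rfl⟩
    apply hcB
    have : (a : Γ) ^ ((s : ℤ) * k) = 1 := by
      rw [_root_.zpow_mul, zpow_natCast, hAs a a.2, one_zpow]
    simp only [Subgroup.coe_subtype, SubgroupClass.coe_zpow, this, mul_one]
    exact hb
  have hgcd : Int.gcd (s : ℤ) j = 1 := by
    rcases (Nat.dvd_prime hs).mp (Int.natCast_dvd_natCast.mp
      (by simpa using Int.gcd_dvd_left (s : ℤ) j)) with h | h
    · exact h
    · exact absurd (by have := Int.gcd_dvd_right (s : ℤ) j; rwa [h] at this) hndvd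
  have hbez := Int.gcd_eq_gcd_ab (s : ℤ) j
  rw [hgcd, Nat.cast_one] at hbez
  have : (a : Γ) = ((a : Γ) ^ j) ^ Int.gcdB (s : ℤ) j := by
    conv_lhs => rw [← zpow_one (a : Γ), hbez, zpow_add, _root_.zpow_mul, _root_.zpow_mul,
      zpow_natCast, hAs a a.2, one_zpow, one_mul]
  rw [this]
  exact zpow_mem hjC _

omit [Finite Γ] [Finite W] in
theorem fix_map_conj {B : Subgroup Γ} (g : Γ) {u : W} (hu : u ∈ CoprimeGen.fix φ B) :
    φ g u ∈ CoprimeGen.fix φ (B.map (MulAut.conj g).toMonoidHom) := by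
  rintro _ ⟨b, hb, rfl⟩
  show φ (g * b * g⁻¹) (φ g u) = φ g u
  rw [← MulAut.mul_apply, ← map_mul, inv_mul_cancel_right, map_mul, MulAut.mul_apply, hu b hb]

omit [Finite Γ] [Finite W] in
theorem map_conj_mem_hyps {B : Subgroup Γ} (hB : B ∈ hyps φ A) {g : Γ}
    (hg : g ∈ normalizer (A : Set Γ)) : B.map (MulAut.conj g).toMonoidHom ∈ hyps φ A := by
  have hAA : A.map (MulAut.conj g).toMonoidHom = A := by
    ext x
    rw [mem_map_equiv, MulAut.conj_symm_apply]
    exact (mem_normalizer_iff''.mp hg x).symm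
  have hinj : Function.Injective (MulAut.conj g).toMonoidHom := (MulAut.conj g).injective
  refine ⟨hAA ▸ map_mono hB.1, fun e => hB.2.1 (map_injective hinj (e.trans hAA.symm)),
    fun C hC hCA => ?_, fun e => ?_⟩
  · have hC' : C = (C.comap (MulAut.conj g).toMonoidHom).map (MulAut.conj g).toMonoidHom :=
      (map_comap_eq_self_of_surjective (MulAut.conj g).surjective C).symm
    rw [hC', hB.2.2.1 (C.comap (MulAut.conj g).toMonoidHom) ?_ ?_, hAA]
    · refine lt_of_le_of_ne (map_le_iff_le_comap.mp hC.le) fun e => hC.ne ?_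
      rw [hC', ← e]
    · rw [← comap_map_eq_self_of_injective hinj A, hAA]
      exact comap_mono hCA
  · obtain ⟨u, hu, hu1⟩ := (bot_or_exists_ne_one _).resolve_left hB.2.2.2
    exact hu1 ((φ g).injective ((mem_bot.mp (e ▸ fix_map_conj g hu)).trans (map_one (φ g)).symm))

/-- A group normalizing `A` and `E` embeds modulo the centralizer of `E` into the permutations of
at most `log₂ |T|` points. -/
theorem exists_coordinates {q : W → T} (hq : AnisoForm q) {E H : Subgroup Γ} {s : ℕ} (hs : s.Prime)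
    (hA : ∀ a ∈ A, ∀ b ∈ A, a * b = b * a) (hAs : ∀ a ∈ A, a ^ s = 1)
    (hcop : (Nat.card A).Coprime (Nat.card W))
    (hfpf : ∀ w : W, (∀ a ∈ A, φ a w = w) → w = 1)
    (hEA : E ≤ normalizer (A : Set Γ)) (hHA : H ≤ normalizer (A : Set Γ))
    (hHE : H ≤ normalizer (E : Set Γ)) (hE2 : ∀ e ∈ E, e * e = 1)
    (hqA : ∀ a ∈ A, ∀ w, q (φ a w) = q w) (hqE : ∀ e ∈ E, ∀ w, q (φ e w) = q w)
    (hker : ∀ e ∈ E, φ e = 1 → e = 1) :
    ∃ m : ℕ, 2 ^ m ≤ Nat.card T ∧ (centralizer (E : Set Γ)).relIndex H ∣ m.factorial := by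
  classical
  refine ⟨Nat.card (hyps φ A), two_pow_card_hyps_le hq hA hfpf hqA, ?_⟩
  have := Fintype.ofFinite (hyps φ A)
  let act : H →* Equiv.Perm (hyps φ A) :=
    { toFun := fun h =>
        { toFun := fun B => ⟨B.1.map (MulAut.conj (h : Γ)).toMonoidHom, map_conj_mem_hyps B.2 (hHA h.2)⟩
          invFun := fun B => ⟨B.1.map (MulAut.conj (h : Γ)⁻¹).toMonoidHom,
            map_conj_mem_hyps B.2 (inv_mem (hHA h.2))⟩
          left_inv := fun B => Subtype.ext (by
            show (B.1.map (MulAut.conj (h : Γ)).toMonoidHom).map (MulAut.conj (h : Γ)⁻¹).toMonoidHom = B.1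
            rw [map_map]
            convert map_id B.1
            ext x; simp [mul_assoc])
          right_inv := fun B => Subtype.ext (by
            show (B.1.map (MulAut.conj (h : Γ)⁻¹).toMonoidHom).map (MulAut.conj (h : Γ)).toMonoidHom = B.1
            rw [map_map]
            convert map_id B.1
            ext x; simp [mul_assoc]) }
      map_one' := Equiv.ext fun B => Subtype.ext (by
        show B.1.map (MulAut.conj ((1 : H) : Γ)).toMonoidHom = B.1
        convert map_id B.1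
        ext x; simp)
      map_mul' := fun g h => Equiv.ext fun B => Subtype.ext (by
        show B.1.map (MulAut.conj ((g * h : H) : Γ)).toMonoidHom
          = (B.1.map (MulAut.conj (h : Γ)).toMonoidHom).map (MulAut.conj (g : Γ)).toMonoidHom
        rw [map_map]
        congr 1
        ext x; simp [mul_assoc]) }
  have hE_fix : ∀ e ∈ E, ∀ B ∈ hyps φ A, B.map (MulAut.conj e).toMonoidHom = B := by
    intro e he B hB
    by_contra hne
    obtain ⟨u, hu, hu1⟩ := (bot_or_exists_ne_one _).resolve_left hB.2.2.2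
    have hB' := map_conj_mem_hyps hB (hEA he)
    have hu' := fix_map_conj e hu
    have h1 : u = φ e u := hq.eq_of_pol_eq_one (hqE e he u).symm
      (orthogonal hq hA hfpf hqA hB hB' (Ne.symm hne) hu hu')
    exact hu1 (fix_inf hfpf (sup_eq_of_ne hB hB' (Ne.symm hne)) hu (h1.symm ▸ hu'))
  have hkerle : act.ker ≤ (centralizer (E : Set Γ)).subgroupOf H := by
    intro h hh
    rw [mem_subgroupOf, mem_centralizer_iff]
    intro e he
    have he' : e ∈ E := he
    set c := (h : Γ) * e * (h : Γ)⁻¹ * e⁻¹ with hc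
    have hcE : c ∈ E := E.mul_mem ((mem_normalizer_iff.mp (hHE h.2) e).mp he') (E.inv_mem he')
    have hfixB : ∀ B ∈ hyps φ A, B.map (MulAut.conj (h : Γ)).toMonoidHom = B := fun B hB =>
      congrArg Subtype.val (Equiv.congr_fun (MonoidHom.mem_ker.mp hh) ⟨B, hB⟩)
    suffices hc1 : φ c = 1 by
      have := hker c hcE hc1
      rw [hc, mul_inv_eq_one, mul_inv_eq_iff_eq_mul] at this
      exact this.symm
    refine MulEquiv.ext fun w => ?_
    have hw : w ∈ (⨆ B ∈ hyps φ A, CoprimeGen.fix φ B) := by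
      rw [iSup_fix_hyps_eq_top hs hA hAs hcop hfpf]; exact Subgroup.mem_top _
    suffices hle : (⨆ B ∈ hyps φ A, CoprimeGen.fix φ B) ≤
        (φ c : W ≃* W).toMonoidHom.eqLocus (MonoidHom.id W) by
      exact hle hw
    refine iSup₂_le fun B hB u hu => ?_
    show φ c u = u
    have hnorm : ∀ g : Γ, B.map (MulAut.conj g).toMonoidHom = B → ∀ b ∈ B, g * b * g⁻¹ ∈ B :=
      fun g hg b hb => hg ▸ ⟨b, hb, rfl⟩
    have hh' : (h : Γ) ∈ normalizer (A : Set Γ) := hHA h.2
    have he'' : e ∈ normalizer (A : Set Γ) := hEA he'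
    have hcA : c ∈ normalizer (A : Set Γ) := hEA hcE
    obtain ⟨a0, ha0A, ha0B⟩ := SetLike.exists_of_lt (lt_of_le_of_ne hB.1 hB.2.1)
    have hgen : B ⊔ zpowers a0 = A :=
      hB.2.2.1 _ (lt_of_le_of_ne le_sup_left fun e => ha0B (e ▸ mem_sup_right (mem_zpowers a0)))
        (sup_le hB.1 ((zpowers_le).mpr ha0A))
    -- automorphisms of the cyclic group `A / B` commute
    have hconjA : ∀ g ∈ normalizer (A : Set Γ), ∀ a ∈ A, g * a * g⁻¹ ∈ A := fun g hg a ha =>
      (mem_normalizer_iff.mp hg a).mp ha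
    have hlin : ∀ g ∈ normalizer (A : Set Γ), (∀ b ∈ B, g * b * g⁻¹ ∈ B) → ∀ (k : ℤ),
        g * a0 * g⁻¹ * (a0 ^ k)⁻¹ ∈ B → ∀ a ∈ A, g * a * g⁻¹ * (a ^ k)⁻¹ ∈ B := by
      intro g hg hgB k hk a ha
      let S : Subgroup Γ :=
        { carrier := {a | a ∈ A ∧ g * a * g⁻¹ * (a ^ k)⁻¹ ∈ B}
          one_mem' := ⟨one_mem _, by simp⟩
          mul_mem' := by
            rintro x y ⟨hx, hx'⟩ ⟨hy, hy'⟩
            refine ⟨A.mul_mem hx hy, ?_⟩
            have hcomm : Commute x y := hA x hx y hy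
            have e1 : g * (x * y) * g⁻¹ * ((x * y) ^ k)⁻¹
                = (g * x * g⁻¹) * ((g * y * g⁻¹ * (y ^ k)⁻¹) * (x ^ k)⁻¹) := by
              rw [hcomm.mul_zpow]; group
            rw [e1, hA _ (hB.1 hy') _ (A.inv_mem (A.zpow_mem hx k)), ← mul_assoc]
            exact B.mul_mem hx' hy'
          inv_mem' := by
            rintro x ⟨hx, hx'⟩
            refine ⟨A.inv_mem hx, ?_⟩
            have e1 : g * x⁻¹ * g⁻¹ * (x⁻¹ ^ k)⁻¹ = (g * x * g⁻¹)⁻¹ * x ^ k := by
              rw [inv_zpow]; group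
            rw [e1, hA _ (A.inv_mem (hconjA g hg x hx)) _ (A.zpow_mem hx k)]
            have := B.inv_mem hx'
            rwa [mul_inv_rev, inv_inv] at this }
      have hle : A ≤ S := by
        rw [← hgen]
        refine sup_le (fun b hb => ⟨hB.1 hb, B.mul_mem (hgB b hb) (B.inv_mem (B.zpow_mem hb k))⟩)
          ((zpowers_le).mpr ⟨ha0A, hk⟩)
      exact (hle ha).2
    have hexp : ∀ g ∈ normalizer (A : Set Γ), ∃ k : ℤ, g * a0 * g⁻¹ * (a0 ^ k)⁻¹ ∈ B := by
      intro g hg
      have hmem : g * a0 * g⁻¹ ∈ B ⊔ zpowers a0 := hgen.symm ▸ hconjA g hg a0 ha0A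
      obtain ⟨k, hk⟩ : ∃ k : ℤ, ∃ b ∈ B, b * a0 ^ k = g * a0 * g⁻¹ := by
        have hn : zpowers a0 ≤ normalizer (B : Set Γ) := (zpowers_le).mpr (by
          rw [mem_normalizer_iff]
          intro b
          refine ⟨fun hb => by rw [hA a0 ha0A b (hB.1 hb), mul_inv_cancel_right]; exact hb, fun hb => ?_⟩
          have e := hA a0 ha0A _ (hB.1 hb)
          have e' : b = a0 * b * a0⁻¹ := by
            calc b = a0⁻¹ * (a0 * b * a0⁻¹ * a0) := by group
              _ = a0 * b * a0⁻¹ := by rw [← e]; group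
          rw [e']; exact hb)
        rw [← SetLike.mem_coe, Subgroup.coe_mul_of_right_le_normalizer_left _ _ hn] at hmem
        obtain ⟨b, hb, z, hz, hbz⟩ := hmem
        obtain ⟨k, rfl⟩ := mem_zpowers_iff.mp hz
        exact ⟨k, b, hb, hbz⟩
      obtain ⟨b, hb, hbz⟩ := hk
      exact ⟨k, by rw [← hbz, mul_inv_cancel_right]; exact hb⟩
    have hBh := hnorm _ (hfixB B hB)
    have hBe := hnorm _ (hE_fix e he' B hB)
    obtain ⟨i, hi⟩ := hexp _ hh'
    obtain ⟨j, hj⟩ := hexp _ he''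
    have hcB : ∀ a ∈ A, c * a * c⁻¹ * a⁻¹ ∈ B := by
      intro a ha
      -- write `a = (e h) x (e h)⁻¹`
      set x := ((e * h : Γ))⁻¹ * a * (e * h) with hx
      have hxA : x ∈ A := by
        have := hconjA _ (inv_mem (mul_mem he'' hh')) a ha
        rwa [inv_inv] at this
      have h1 : (e * h : Γ) * x * (e * h : Γ)⁻¹ * (x ^ (i * j))⁻¹ ∈ B := by
        have u1 := hlin _ hh' hBh i hi x hxA
        have u2 := hlin _ he'' hBe j hj (x ^ i) (A.zpow_mem hxA i)
        rw [← _root_.zpow_mul] at u2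
        have e1 : (e * h : Γ) * x * (e * h : Γ)⁻¹ * (x ^ (i * j))⁻¹
            = (e * ((h : Γ) * x * (h : Γ)⁻¹ * (x ^ i)⁻¹) * e⁻¹) *
              (e * x ^ i * e⁻¹ * (x ^ (i * j))⁻¹) := by group
        rw [e1]
        exact B.mul_mem (hBe _ u1) u2
      have h2 : ((h : Γ) * e) * x * ((h : Γ) * e)⁻¹ * (x ^ (i * j))⁻¹ ∈ B := by
        have u1 := hlin _ he'' hBe j hj x hxA
        have u2 := hlin _ hh' hBh i hi (x ^ j) (A.zpow_mem hxA j)
        rw [← _root_.zpow_mul, mul_comm j i] at u2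
        have e1 : ((h : Γ) * e) * x * ((h : Γ) * e)⁻¹ * (x ^ (i * j))⁻¹
            = ((h : Γ) * (e * x * e⁻¹ * (x ^ j)⁻¹) * (h : Γ)⁻¹) *
              ((h : Γ) * x ^ j * (h : Γ)⁻¹ * (x ^ (i * j))⁻¹) := by group
        rw [e1]
        exact B.mul_mem (hBh _ u1) u2
      have h3 := B.mul_mem h2 (B.inv_mem h1)
      have e2 : c * a * c⁻¹ * a⁻¹ = ((h : Γ) * e) * x * ((h : Γ) * e)⁻¹ * (x ^ (i * j))⁻¹ *
          ((e * h : Γ) * x * (e * h : Γ)⁻¹ * (x ^ (i * j))⁻¹)⁻¹ := by
        rw [hc, hx]; group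
      rwa [e2]
    have hcnB := hnorm _ (hE_fix c hcE B hB)
    have hcu : ∀ v ∈ CoprimeGen.fix φ B, φ c v ∈ CoprimeGen.fix φ B := fun v hv =>
      hE_fix c hcE B hB ▸ fix_map_conj c hv
    have hinv : ∀ v, φ c (φ c v) = v := fun v => by
      rw [← MulAut.mul_apply, ← map_mul, hE2 c hcE, map_one]; rfl
    let lam : W → T := fun v => pol q v (φ c v)
    have hlam_mul : ∀ v v', lam (v * v') = lam v * lam v' := by
      intro v v'
      have hs' : pol q v' (φ c v) = pol q v (φ c v') := by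
        rw [← pol_isometry (φ c) (hqE c hcE) v' (φ c v), hinv, AnisoForm.symm]
      show pol q (v * v') (φ c (v * v')) = pol q v (φ c v) * pol q v' (φ c v')
      rw [map_mul, hq.bil, hq.bil_right, hq.bil_right, hs']
      calc pol q v (φ c v) * pol q v (φ c v') * (pol q v (φ c v') * pol q v' (φ c v'))
          = pol q v (φ c v) * (pol q v (φ c v') * pol q v (φ c v')) * pol q v' (φ c v') := by ac_rfl
        _ = _ := by rw [hq.expT, mul_one]
    have hlam_inv : ∀ a ∈ A, ∀ v ∈ CoprimeGen.fix φ B, lam (φ a v) = lam v := by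
      intro a ha v hv
      have hcomm : φ c (φ a v) = φ a (φ c v) := by
        have h1 : φ (c * a * c⁻¹ * a⁻¹) (φ a (φ c v)) = φ a (φ c v) := by
          have hmem : φ a (φ c v) ∈ CoprimeGen.fix φ B := fun b hb => by
            rw [← MulAut.mul_apply, ← map_mul, ← hA a ha b (hB.1 hb), map_mul, MulAut.mul_apply,
              hcu v hv b hb]
          exact hmem _ (hcB a ha)
        rw [← MulAut.mul_apply, ← MulAut.mul_apply, ← map_mul, ← map_mul] at h1
        rw [← MulAut.mul_apply, ← map_mul, ← h1]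
        congr 2
        group
      show pol q (φ a v) (φ c (φ a v)) = pol q v (φ c v)
      rw [hcomm]
      exact pol_isometry _ (hqA a ha) _ _
    have hlam0 : lam u = 1 := by
      obtain ⟨x, hx, rfl⟩ := exists_preimage hq.expW hA hfpf hB ha0A ha0B hu
      rw [hlam_mul, hlam_inv a0 ha0A x hx, hq.expT]
    exact (hq.eq_of_pol_eq_one (hqE c hcE u).symm hlam0).symm
  have h1 : ((centralizer (E : Set Γ)).subgroupOf H).index ∣ act.ker.index := index_dvd_of_le hkerle
  refine (h1.trans ?_)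
  rw [index_ker, ← Nat.card_perm]
  exact Subgroup.card_subgroup_dvd_card _

end main

end Cfsg.Agent.Lib.OneClassInvolutions
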