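import Cfsg.Agent.Lib.OneClassInvolutions.Basic
import Cfsg.Agent.Lib.OneClassInvolutions.Coordinates
import Cfsg.Agent.Lib.Solvable.Nilpotent

/-!
A maximal normal abelian subgroup `A` of `O₂`, the layer `Q` above it, and the faithful action of
the centralizer of the involutions, modulo `O₂`, on `Q₀ / Ω₁` with its anisotropic squaring map.
-/

set_option autoImplicit false

namespace Cfsg.Agent.Lib.OneClassInvolutions

open Subgroup
open scoped Pointwise

variable {G : Type*} [Group G]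

/-- `A` is maximal among the normal abelian subgroups of `G` inside `O₂`. -/
structure Layer (A : Subgroup G) : Prop where
  normal : A.Normal
  le : A ≤ Cfsg.pCore 2 G
  comm : ∀ a ∈ A, ∀ b ∈ A, a * b = b * a
  max : ∀ B : Subgroup G, B.Normal → B ≤ Cfsg.pCore 2 G → (∀ a ∈ B, ∀ b ∈ B, a * b = b * a) →
    A ≤ B → B = A

theorem exists_layer [Finite G] : ∃ A : Subgroup G, Layer A := by
  let S : Set (Subgroup G) :=
    {A | A.Normal ∧ A ≤ Cfsg.pCore 2 G ∧ ∀ a ∈ A, ∀ b ∈ A, a * b = b * a}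
  obtain ⟨A, hA, hmax⟩ := Set.Finite.exists_maximal (s := S) (Set.toFinite _)
    ⟨⊥, normal_bot, bot_le, fun a ha b hb => by rw [mem_bot.mp ha, mem_bot.mp hb]⟩
  exact ⟨A, hA.1, hA.2.1, hA.2.2, fun B h1 h2 h3 h4 => le_antisymm (hmax ⟨h1, h2, h3⟩ h4) h4⟩

/-- The elements of `O₂` centralizing `A` that lie in `Ω₁(Z(O₂ / A))`. -/
def layerQ (A : Subgroup G) [hA : A.Normal] : Subgroup G where
  carrier := {x | x ∈ Cfsg.pCore 2 G ∧ (∀ a ∈ A, a * x = x * a) ∧ x * x ∈ A ∧
    ∀ p ∈ Cfsg.pCore 2 G, p * x * p⁻¹ * x⁻¹ ∈ A}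
  one_mem' := ⟨one_mem _, fun a _ => by simp, by simp, fun p _ => by simp⟩
  mul_mem' := by
    rintro x y ⟨hx, hxA, hx2, hxP⟩ ⟨hy, hyA, hy2, hyP⟩
    refine ⟨mul_mem hx hy, fun a ha => by rw [← mul_assoc, hxA a ha, mul_assoc, hyA a ha, mul_assoc],
      ?_, fun p hp => ?_⟩
    · have e : x * y * (x * y) = (x * (y * x * y⁻¹ * x⁻¹) * x⁻¹) * ((x * x) * (y * y)) := by group
      rw [e]
      exact A.mul_mem (hA.conj_mem _ (hxP y hy) x) (A.mul_mem hx2 hy2)
    · have e : p * (x * y) * p⁻¹ * (x * y)⁻¹ =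
          (p * x * p⁻¹ * x⁻¹) * (x * (p * y * p⁻¹ * y⁻¹) * x⁻¹) := by group
      rw [e]
      exact A.mul_mem (hxP p hp) (hA.conj_mem _ (hyP p hp) x)
  inv_mem' := by
    rintro x ⟨hx, hxA, hx2, hxP⟩
    refine ⟨inv_mem hx, fun a ha => ?_, ?_, fun p hp => ?_⟩
    · calc a * x⁻¹ = x⁻¹ * (x * a) * x⁻¹ := by group
        _ = x⁻¹ * (a * x) * x⁻¹ := by rw [hxA a ha]
        _ = x⁻¹ * a := by group
    · have e : x⁻¹ * x⁻¹ = (x * x)⁻¹ := by group
      rw [e]; exact A.inv_mem hx2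
    · have e : p * x⁻¹ * p⁻¹ * x⁻¹⁻¹ = x⁻¹ * (p * x * p⁻¹ * x⁻¹)⁻¹ * x⁻¹⁻¹ := by group
      rw [e]; exact hA.conj_mem _ (A.inv_mem (hxP p hp)) _

theorem mem_layerQ {A : Subgroup G} [A.Normal] {x : G} : x ∈ layerQ A ↔
    x ∈ Cfsg.pCore 2 G ∧ (∀ a ∈ A, a * x = x * a) ∧ x * x ∈ A ∧
      ∀ p ∈ Cfsg.pCore 2 G, p * x * p⁻¹ * x⁻¹ ∈ A := Iff.rfl

instance layerQ_normal (A : Subgroup G) [hA : A.Normal] : (layerQ A).Normal := by
  have hP := Cfsg.pCore_normal 2 G
  refine ⟨fun x hx g => ⟨hP.conj_mem x hx.1 g, fun a ha => ?_, ?_, fun p hp => ?_⟩⟩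
  · have h1 := hx.2.1 _ (hA.conj_mem a ha g⁻¹)
    rw [inv_inv] at h1
    calc a * (g * x * g⁻¹) = g * ((g⁻¹ * a * g) * x) * g⁻¹ := by group
      _ = g * (x * (g⁻¹ * a * g)) * g⁻¹ := by rw [h1]
      _ = g * x * g⁻¹ * a := by group
  · have e : g * x * g⁻¹ * (g * x * g⁻¹) = g * (x * x) * g⁻¹ := by group
    rw [e]; exact hA.conj_mem _ hx.2.2.1 g
  · have e : p * (g * x * g⁻¹) * p⁻¹ * (g * x * g⁻¹)⁻¹ =
        g * ((g⁻¹ * p * g⁻¹⁻¹) * x * (g⁻¹ * p * g⁻¹⁻¹)⁻¹ * x⁻¹) * g⁻¹ := by group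
    rw [e]; exact hA.conj_mem _ (hx.2.2.2 _ (hP.conj_mem p hp g⁻¹)) g

theorem eq_one_of_shift {g x y : G} (h : g * x * g⁻¹ = x * y) (hy : g * y * g⁻¹ = y)
    (hodd : Odd (orderOf g)) {k : ℕ} (hk : y ^ 2 ^ k = 1) : y = 1 := by
  have key : ∀ i : ℕ, g ^ i * x * (g ^ i)⁻¹ = x * y ^ i := by
    intro i
    induction i with
    | zero => simp
    | succ i ih =>
      have hcg : Commute g (y ^ i) :=
        (show Commute g y from mul_inv_eq_iff_eq_mul.mp hy).pow_right i
      calc g ^ (i + 1) * x * (g ^ (i + 1))⁻¹ = g * (g ^ i * x * (g ^ i)⁻¹) * g⁻¹ := by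
            rw [pow_succ' g i]; group
        _ = (g * x * g⁻¹) * (g * y ^ i * g⁻¹) := by rw [ih]; group
        _ = x * y ^ (i + 1) := by rw [h, hcg.eq, mul_inv_cancel_right, pow_succ' y i, mul_assoc]
  have h1 := key (orderOf g)
  rw [pow_orderOf_eq_one, one_mul, inv_one, mul_one] at h1
  have h2 : y ^ orderOf g = 1 := mul_eq_left.mp h1.symm
  have h3 := Nat.dvd_gcd (orderOf_dvd_of_pow_eq_one hk) (orderOf_dvd_of_pow_eq_one h2)
  rw [Nat.Coprime.gcd_eq_one (Nat.Coprime.pow_left k (Nat.coprime_two_left.mpr hodd))] at h3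
  exact orderOf_eq_one_iff.mp (Nat.dvd_one.mp h3)

theorem exists_two_pow [Finite G] {x : G} (hx : x ∈ Cfsg.pCore 2 G) : ∃ k : ℕ, x ^ 2 ^ k = 1 := by
  obtain ⟨k, hk⟩ := Cores.pCore_isPGroup 2 G ⟨x, hx⟩
  exact ⟨k, congrArg Subtype.val hk⟩

variable [Finite G]

namespace Layer

variable {A : Subgroup G} (L : Layer A) (F : Frame G)

include L in
theorem invSub_le : invSub G ≤ A := by
  have := L.normal
  have h : A ⊔ invSub G = A := L.max _ (Subgroup.sup_normal _ _) (sup_le L.le OneClassInvolutions.invSub_le) ?_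
    le_sup_left
  · exact h ▸ le_sup_right
  intro x hx y hy
  obtain ⟨a, ha, v, hv, rfl⟩ := mem_sup_of_normal_right.mp hx
  obtain ⟨b, hb, w, hw, rfl⟩ := mem_sup_of_normal_right.mp hy
  have hab := L.comm a ha b hb
  have hvw := Frame.commute_invSub hv hw
  have hvb := (mem_invSub.mp hv).2.1 b (L.le hb)
  have hwa := (mem_invSub.mp hw).2.1 a (L.le ha)
  calc a * v * (b * w) = a * (v * b) * w := by group
    _ = a * (b * v) * w := by rw [hvb]
    _ = (a * b) * (v * w) := by group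
    _ = (b * a) * (w * v) := by rw [hab, hvw]
    _ = b * (a * w) * v := by group
    _ = b * (w * a) * v := by rw [hwa]
    _ = b * w * (a * v) := by group

include L in
theorem le_layerQ : haveI := L.normal; A ≤ layerQ A := by
  intro a ha
  refine ⟨L.le ha, fun b hb => L.comm b hb a ha, A.mul_mem ha ha, fun p _ => ?_⟩
  exact A.mul_mem (L.normal.conj_mem a ha p) (A.inv_mem ha)

variable [A.Normal]

omit [Finite G] in
theorem comm_mem {x y : G} (hx : x ∈ layerQ A) (hy : y ∈ layerQ A) : y * x * y⁻¹ * x⁻¹ ∈ A :=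
  hx.2.2.2 y hy.1

include L F in
theorem comm_mem_invSub {x y : G} (hx : x ∈ layerQ A) (hy : y ∈ layerQ A) :
    y * x * y⁻¹ * x⁻¹ ∈ invSub G := by
  rw [F.mem_invSub_iff]
  set c := y * x * y⁻¹ * x⁻¹ with hc
  have hcx : c * x = x * c := hx.2.1 c (comm_mem hx hy)
  have hxy : (x * x) * y = y * (x * x) := hy.2.1 _ hx.2.2.1
  have e : y * (x * x) * y⁻¹ * (x * x)⁻¹ = c * (x * c * x⁻¹) := by rw [hc]; group
  rw [← hcx, mul_inv_cancel_right, ← hxy, mul_inv_cancel_right, mul_inv_cancel] at e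
  exact e.symm

omit [Finite G] [A.Normal] in
theorem sq_mul (x y : G) (h : ∀ z, z = y * x * y⁻¹ * x⁻¹ → z * x = x * z) :
    x * y * (x * y) = (y * x * y⁻¹ * x⁻¹) * ((x * x) * (y * y)) := by
  have h1 := h _ rfl
  set c := y * x * y⁻¹ * x⁻¹ with hc
  calc x * y * (x * y) = (x * c) * (x * (y * y)) := by rw [hc]; group
    _ = (c * x) * (x * (y * y)) := by rw [h1]
    _ = _ := by group

include L in
theorem mem_of_commute {x : G} (hx : x ∈ layerQ A) (h : ∀ y ∈ layerQ A, y * x = x * y) : x ∈ A := by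
  have e : layerQ A ⊓ centralizer (layerQ A : Set G) = A := L.max _ inferInstance
    (fun z hz => hz.1.1) (fun a ha b hb => mem_centralizer_iff.mp hb.2 a ha.1) (fun a ha =>
      ⟨L.le_layerQ ha, mem_centralizer_iff.mpr fun y hy => ((mem_layerQ.mp hy).2.1 a ha).symm⟩)
  rw [← e]
  exact ⟨hx, mem_centralizer_iff.mpr h⟩

include L in
theorem centralizer_layerQ_le :
    Cfsg.pCore 2 G ⊓ centralizer (layerQ A : Set G) ≤ A := by
  set P := Cfsg.pCore 2 G with hP
  have : P.Normal := Cfsg.pCore_normal 2 G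
  have : Fact (Nat.Prime 2) := ⟨Nat.prime_two⟩
  set D := P ⊓ centralizer (layerQ A : Set G) with hD
  set π := QuotientGroup.mk' (A.subgroupOf P) with hπ
  have hPp : IsPGroup 2 P := Cores.pCore_isPGroup 2 G
  have hquot := hPp.to_quotient (A.subgroupOf P)
  have := hquot.isNilpotent
  have hDn : ((D.subgroupOf P).map π).Normal :=
    Normal.map (Normal.subgroupOf inferInstance P) π (QuotientGroup.mk'_surjective _)
  intro d hd
  by_contra hdA
  have hne : (D.subgroupOf P).map π ≠ ⊥ := fun h => hdA (by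
    have hm : π ⟨d, hd.1⟩ ∈ (D.subgroupOf P).map π := mem_map_of_mem _ (mem_subgroupOf.mpr hd)
    rw [h, mem_bot] at hm
    exact mem_subgroupOf.mp ((QuotientGroup.eq_one_iff (N := A.subgroupOf P) _).mp hm))
  obtain ⟨z, hz, hz1⟩ := (bot_or_exists_ne_one _).resolve_left
    (Solvable.inf_center_ne_bot (N := (D.subgroupOf P).map π) hne)
  obtain ⟨y, hy, hy1, hy2⟩ := exists_order_two (hquot.to_subgroup _) hz hz1
  obtain ⟨⟨x, hxD, rfl⟩, hyc⟩ := (zpowers_le).mpr hz hy
  have hxQ : (x : G) ∈ layerQ A := by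
    refine ⟨x.2, fun a ha => mem_centralizer_iff.mp (mem_subgroupOf.mp hxD).2 a (L.le_layerQ ha),
      ?_, fun p hp => ?_⟩
    · refine mem_subgroupOf.mp (?_ : x * x ∈ A.subgroupOf P)
      refine (QuotientGroup.eq_one_iff (N := A.subgroupOf P) _).mp ?_
      show π (x * x) = 1
      rw [map_mul, hy2]
    · refine mem_subgroupOf.mp
        (?_ : (⟨p, hp⟩ : P) * x * (⟨p, hp⟩ : P)⁻¹ * x⁻¹ ∈ A.subgroupOf P)
      refine (QuotientGroup.eq_one_iff (N := A.subgroupOf P) _).mp ?_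
      show π ((⟨p, hp⟩ : P) * x * (⟨p, hp⟩ : P)⁻¹ * x⁻¹) = 1
      rw [map_mul, map_mul, map_mul, map_inv, map_inv, mem_center_iff.mp hyc, mul_inv_cancel_right,
        mul_inv_cancel]
  exact hy1 ((QuotientGroup.eq_one_iff (N := A.subgroupOf P) _).mpr (mem_subgroupOf.mpr
    (L.mem_of_commute hxQ fun w hw => mem_centralizer_iff.mp (mem_subgroupOf.mp hxD).2 w hw)))

end Layer

/-- The subgroup of `Q` of elements with square in `Ω₁`. -/
def layerQ0 {A : Subgroup G} [A.Normal] (F : Frame G) (L : Layer A) : Subgroup G where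
  carrier := {x | x ∈ layerQ A ∧ x * x ∈ invSub G}
  one_mem' := ⟨one_mem _, by simp⟩
  mul_mem' := by
    rintro x y ⟨hx, hx2⟩ ⟨hy, hy2⟩
    refine ⟨mul_mem hx hy, ?_⟩
    rw [Layer.sq_mul x y (fun z hz => hx.2.1 z (hz ▸ Layer.comm_mem hx hy))]
    exact mul_mem (L.comm_mem_invSub F hx hy) (mul_mem hx2 hy2)
  inv_mem' := by
    rintro x ⟨hx, hx2⟩
    refine ⟨inv_mem hx, ?_⟩
    rw [← mul_inv_rev]
    exact inv_mem hx2

section faithful

variable {A : Subgroup G} [A.Normal] (F : Frame G) (L : Layer A)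

theorem mem_layerQ0 {x : G} : x ∈ layerQ0 F L ↔ x ∈ layerQ A ∧ x * x ∈ invSub G := Iff.rfl

theorem invSub_le_layerQ0 : invSub G ≤ layerQ0 F L := fun v hv =>
  ⟨L.le_layerQ (L.invSub_le hv), by rw [(mem_invSub.mp hv).2.2]; exact one_mem _⟩

instance layerQ0_normal : (layerQ0 F L).Normal := by
  refine ⟨fun x hx g => ⟨(layerQ_normal A).conj_mem x hx.1 g, ?_⟩⟩
  have e : g * x * g⁻¹ * (g * x * g⁻¹) = g * (x * x) * g⁻¹ := by group
  rw [e]
  exact (invSub_normal (G := G)).conj_mem _ hx.2 g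

include L F in
theorem fix_abelian {g : G} (hodd : Odd (orderOf g)) (hV : ∀ v ∈ invSub G, g * v * g⁻¹ = v) :
    ∀ a ∈ A, g * a * g⁻¹ = a := by
  suffices h : ∀ k : ℕ, ∀ a ∈ A, a ^ 2 ^ k = 1 → g * a * g⁻¹ = a by
    intro a ha
    obtain ⟨k, hk⟩ := exists_two_pow (L.le ha)
    exact h k a ha hk
  intro k
  induction k with
  | zero => intro a _ hk; rw [pow_zero, pow_one] at hk; rw [hk, mul_one, mul_inv_cancel]
  | succ k ih =>
    intro a ha hk
    set y := a⁻¹ * (g * a * g⁻¹) with hy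
    have hyA : y ∈ A := A.mul_mem (A.inv_mem ha) (‹A.Normal›.conj_mem a ha g)
    have hsq : g * (a * a) * g⁻¹ = a * a := ih _ (A.mul_mem ha ha) (by
      rw [← pow_two, ← pow_mul, ← pow_succ']; exact hk)
    have hyy : y * y = 1 := by
      have hc := L.comm a ha y hyA
      have e1 : (a * y) * (a * y) = g * (a * a) * g⁻¹ := by rw [hy]; group
      rw [hsq] at e1
      have e2 : (a * y) * (a * y) = (a * a) * (y * y) := by
        calc a * y * (a * y) = a * (y * a) * y := by group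
          _ = a * (a * y) * y := by rw [hc]
          _ = _ := by group
      exact mul_eq_left.mp (e2.symm.trans e1)
    have hyfix := hV y (F.mem_invSub_iff.mpr hyy)
    have := eq_one_of_shift (x := a) (y := y) (by rw [hy]; group) hyfix hodd (k := 1)
      (by rw [pow_one, pow_two]; exact hyy)
    rw [hy, inv_mul_eq_one] at this
    exact this.symm

/-- An element of odd order fixing `Ω₁` and acting trivially on `Q₀ / Ω₁` is trivial. -/
theorem faithful {g : G} (hodd : Odd (orderOf g)) (hV : ∀ v ∈ invSub G, g * v * g⁻¹ = v)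
    (hW : ∀ x ∈ layerQ0 F L, x⁻¹ * (g * x * g⁻¹) ∈ invSub G) : g = 1 := by
  have hA := fix_abelian F L hodd hV
  have hQ0 : ∀ x ∈ layerQ0 F L, g * x * g⁻¹ = x := by
    intro x hx
    have hy := hW x hx
    obtain ⟨k, hk⟩ := exists_two_pow (invSub_le hy)
    have := eq_one_of_shift (x := x) (g := g) (by group) (hV _ hy) hodd hk
    rw [inv_mul_eq_one] at this
    exact this.symm
  have hQ : ∀ x ∈ layerQ A, g * x * g⁻¹ = x := by
    intro x hx
    set y := x⁻¹ * (g * x * g⁻¹) with hy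
    have hyQ : y ∈ layerQ A := mul_mem (inv_mem hx) ((layerQ_normal A).conj_mem x hx g)
    have hy0 : y ∈ layerQ0 F L := by
      refine ⟨hyQ, ?_⟩
      have e1 : (x * y) * (x * y) = g * (x * x) * g⁻¹ := by rw [hy]; group
      rw [hA _ hx.2.2.1, Layer.sq_mul x y (fun z hz => hx.2.1 z (hz ▸ Layer.comm_mem hx hyQ))] at e1
      set c := y * x * y⁻¹ * x⁻¹
      have hc : c ∈ A := Layer.comm_mem hx hyQ
      have e2 : (x * x) * (c * (y * y)) = (x * x) * 1 := by
        rw [mul_one, ← mul_assoc, L.comm _ hx.2.2.1 c hc, mul_assoc, e1]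
      have e3 : y * y = c⁻¹ := eq_inv_of_mul_eq_one_right (mul_left_cancel e2)
      rw [e3]
      exact inv_mem (L.comm_mem_invSub F hx hyQ)
    obtain ⟨k, hk⟩ := exists_two_pow hyQ.1
    have := eq_one_of_shift (x := x) (g := g) (by rw [hy]; group) (hQ0 y hy0) hodd hk
    rw [hy, inv_mul_eq_one] at this
    exact this.symm
  have hP : ∀ p ∈ Cfsg.pCore 2 G, g * p * g⁻¹ = p := by
    intro p hp
    have hyA : p⁻¹ * (g * p * g⁻¹) ∈ A := by
      refine L.centralizer_layerQ_le (mem_inf.mpr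
        ⟨mul_mem (inv_mem hp) ((Cfsg.pCore_normal 2 G).conj_mem p hp g), ?_⟩)
      rw [mem_centralizer_iff]
      intro q hq
      have h1 : g * (p * q * p⁻¹) * g⁻¹ = p * q * p⁻¹ := hQ _ ((layerQ_normal A).conj_mem q hq p)
      have h3 : g⁻¹ * q * g = q := by
        conv_lhs => rw [← hQ q hq]
        group
      calc q * (p⁻¹ * (g * p * g⁻¹)) = p⁻¹ * ((p * q * p⁻¹) * (g * p * g⁻¹)) := by group
        _ = p⁻¹ * (g * (p * q * p⁻¹) * g⁻¹ * (g * p * g⁻¹)) := by rw [h1]
        _ = p⁻¹ * (g * p * (q * g⁻¹)) := by group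
        _ = p⁻¹ * (g * p * (g⁻¹ * q)) := by
          rw [show q * g⁻¹ = g⁻¹ * q from by conv_lhs => rw [← h3]
                                             group]
        _ = p⁻¹ * (g * p * g⁻¹) * q := by group
    obtain ⟨k, hk⟩ := exists_two_pow (L.le hyA)
    have := eq_one_of_shift (x := p) (g := g) (by group) (hA _ hyA) hodd hk
    rw [inv_mul_eq_one] at this
    exact this.symm
  have hgP : g ∈ Cfsg.pCore 2 G := F.centralizer_pCore_le (mem_centralizer_iff.mpr fun p hp =>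
    (mul_inv_eq_iff_eq_mul.mp (hP p hp)).symm)
  obtain ⟨k, hk⟩ := exists_two_pow hgP
  have h3 := Nat.dvd_gcd (orderOf_dvd_of_pow_eq_one hk) (dvd_refl (orderOf g))
  rw [Nat.Coprime.gcd_eq_one (Nat.Coprime.pow_left k (Nat.coprime_two_left.mpr hodd))] at h3
  exact orderOf_eq_one_iff.mp (Nat.dvd_one.mp h3)

end faithful

section quotient

variable {A : Subgroup G} [A.Normal] (F : Frame G) (L : Layer A)

/-- `Q₀ / Ω₁`. -/
abbrev LayerW : Type _ := ↥(layerQ0 F L) ⧸ (invSub G).subgroupOf (layerQ0 F L)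

theorem layerW_mul_comm (a b : LayerW F L) : a * b = b * a := by
  obtain ⟨x, rfl⟩ := QuotientGroup.mk'_surjective _ a
  obtain ⟨y, rfl⟩ := QuotientGroup.mk'_surjective _ b
  rw [← map_mul, ← map_mul]
  apply QuotientGroup.eq.mpr
  rw [mem_subgroupOf]
  show ((x : G) * y)⁻¹ * (y * x) ∈ invSub G
  have h := L.comm_mem_invSub F x.2.1 y.2.1
  have h' := (invSub_normal (G := G)).conj_mem _ h ((x : G) * y)⁻¹
  have e : ((x : G) * y)⁻¹ * ((y : G) * x * (y : G)⁻¹ * (x : G)⁻¹) * ((x : G) * y)⁻¹⁻¹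
      = ((x : G) * y)⁻¹ * (y * x) := by group
  rwa [e] at h'

instance layerWComm : CommGroup (LayerW F L) :=
  { (inferInstance : Group (LayerW F L)) with mul_comm := layerW_mul_comm F L }

instance invSubComm : CommGroup (invSub G) :=
  { (inferInstance : Group (invSub G)) with
    mul_comm := fun a b => Subtype.ext (Frame.commute_invSub a.2 b.2) }

/-- The squaring map. -/
def layerSq : LayerW F L → invSub G :=
  Quotient.lift (fun x : layerQ0 F L => (⟨(x : G) * x, x.2.2⟩ : invSub G)) (by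
    intro x y hxy
    have hv : (x : G)⁻¹ * y ∈ invSub G := mem_subgroupOf.mp (QuotientGroup.leftRel_apply.mp hxy)
    refine Subtype.ext ?_
    show (x : G) * x = y * y
    have hc := (mem_invSub.mp hv).2.1 x x.2.1.1
    calc (x : G) * x = (x * x) * (((x : G)⁻¹ * y) * ((x : G)⁻¹ * y)) := by
          rw [(mem_invSub.mp hv).2.2, mul_one]
      _ = x * (x * ((x : G)⁻¹ * y)) * ((x : G)⁻¹ * y) := by group
      _ = x * (((x : G)⁻¹ * y) * x) * ((x : G)⁻¹ * y) := by rw [hc]
      _ = y * y := by group)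

theorem layerSq_mk (x : layerQ0 F L) :
    (layerSq F L (QuotientGroup.mk x) : G) = (x : G) * x := rfl

theorem pol_layerSq (x y : layerQ0 F L) :
    ((pol (layerSq F L) (QuotientGroup.mk x : LayerW F L) (QuotientGroup.mk y) : invSub G) : G) =
      (y : G) * x * (y : G)⁻¹ * (x : G)⁻¹ := by
  unfold pol
  rw [← QuotientGroup.mk_mul]
  show ((x * y : layerQ0 F L) : G) * ((x * y : layerQ0 F L) : G) * ((x : G) * x) * ((y : G) * y) = _
  rw [coe_mul, Layer.sq_mul (x : G) y
    (fun z hz => x.2.1.2.1 z (hz ▸ Layer.comm_mem x.2.1 y.2.1))]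
  set c := (y : G) * x * (y : G)⁻¹ * (x : G)⁻¹
  have hx2 := (mem_invSub.mp x.2.2).2.2
  have hy2 := (mem_invSub.mp y.2.2).2.2
  have hxy := Frame.commute_invSub x.2.2 y.2.2
  calc c * ((x : G) * x * ((y : G) * y)) * ((x : G) * x) * ((y : G) * y)
      = c * (((x : G) * x * ((y : G) * y)) * ((x : G) * x)) * ((y : G) * y) := by group
    _ = c * (((x : G) * x) * (((y : G) * y) * ((x : G) * x))) * ((y : G) * y) := by group
    _ = c * (((x : G) * x) * (((x : G) * x) * ((y : G) * y))) * ((y : G) * y) := by rw [hxy]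
    _ = c * (((x : G) * x) * ((x : G) * x)) * (((y : G) * y) * ((y : G) * y)) := by group
    _ = c := by rw [hx2, hy2, mul_one, mul_one]

theorem layerForm : AnisoForm (layerSq F L) where
  expW := by
    intro w
    obtain ⟨x, rfl⟩ := QuotientGroup.mk'_surjective _ w
    rw [← map_mul]
    exact (QuotientGroup.eq_one_iff _).mpr (mem_subgroupOf.mpr x.2.2)
  expT := fun t => Subtype.ext (mem_invSub.mp t.2).2.2
  aniso := by
    intro w hw
    obtain ⟨x, rfl⟩ := QuotientGroup.mk'_surjective _ w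
    exact (QuotientGroup.eq_one_iff _).mpr
      (mem_subgroupOf.mpr (F.mem_invSub_iff.mpr (congrArg Subtype.val hw)))
  bil := by
    intro a b c
    obtain ⟨x, rfl⟩ := QuotientGroup.mk'_surjective _ a
    obtain ⟨y, rfl⟩ := QuotientGroup.mk'_surjective _ b
    obtain ⟨z, rfl⟩ := QuotientGroup.mk'_surjective _ c
    apply Subtype.ext
    rw [coe_mul, ← map_mul]
    simp only [QuotientGroup.mk'_apply]
    rw [pol_layerSq, pol_layerSq, pol_layerSq, coe_mul]
    have hzy : ((z : G) * y * (z : G)⁻¹ * (y : G)⁻¹) * x = x * ((z : G) * y * (z : G)⁻¹ * (y : G)⁻¹) :=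
      x.2.1.2.1 _ (Layer.comm_mem y.2.1 z.2.1)
    calc (z : G) * (x * y) * (z : G)⁻¹ * ((x : G) * y)⁻¹
        = ((z : G) * x * (z : G)⁻¹ * (x : G)⁻¹) *
            ((x * ((z : G) * y * (z : G)⁻¹ * (y : G)⁻¹)) * (x : G)⁻¹) := by group
      _ = _ := by rw [← hzy, mul_inv_cancel_right]

theorem subgroupOf_map_conjNormal (g : G) :
    ((invSub G).subgroupOf (layerQ0 F L)).map
      (MulAut.conjNormal g : MulAut (layerQ0 F L)).toMonoidHom
      = (invSub G).subgroupOf (layerQ0 F L) := by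
  ext x
  rw [mem_map_equiv, mem_subgroupOf, mem_subgroupOf, MulAut.conjNormal_symm_apply]
  constructor
  · intro h
    have := (invSub_normal (G := G)).conj_mem _ h g
    simpa [mul_assoc] using this
  · intro h
    have := (invSub_normal (G := G)).conj_mem _ h g⁻¹
    simpa using this

/-- Conjugation on `Q₀ / Ω₁`. -/
noncomputable def layerConj : G →* MulAut (LayerW F L) where
  toFun g := QuotientGroup.congr _ _ (MulAut.conjNormal g : MulAut (layerQ0 F L))
    (subgroupOf_map_conjNormal F L g)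
  map_one' := MulEquiv.ext fun w => by
    obtain ⟨x, rfl⟩ := QuotientGroup.mk'_surjective _ w
    simp
  map_mul' g h := MulEquiv.ext fun w => by
    obtain ⟨x, rfl⟩ := QuotientGroup.mk'_surjective _ w
    show QuotientGroup.mk (MulAut.conjNormal (g * h) x) =
      QuotientGroup.mk (MulAut.conjNormal g (MulAut.conjNormal h x))
    rw [map_mul, MulAut.mul_apply]

theorem layerConj_mk (g : G) (x : layerQ0 F L) :
    layerConj F L g (QuotientGroup.mk x) = QuotientGroup.mk (MulAut.conjNormal g x) := rfl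

theorem layerSq_conj {g : G} (hg : g ∈ centralizer (invSub G : Set G)) (w : LayerW F L) :
    layerSq F L (layerConj F L g w) = layerSq F L w := by
  obtain ⟨x, rfl⟩ := QuotientGroup.mk'_surjective _ w
  rw [QuotientGroup.mk'_apply, layerConj_mk]
  apply Subtype.ext
  rw [layerSq_mk, layerSq_mk, MulAut.conjNormal_apply]
  calc g * (x : G) * g⁻¹ * (g * x * g⁻¹) = g * ((x : G) * x) * g⁻¹ := by group
    _ = (x : G) * x := by
      rw [← mem_centralizer_iff.mp hg _ x.2.2, mul_inv_cancel_right]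

/-- An element of odd order centralizing `Ω₁` and trivial on `Q₀ / Ω₁` is trivial. -/
theorem layerConj_faithful {g : G} (hodd : Odd (orderOf g))
    (hg : g ∈ centralizer (invSub G : Set G)) (h : layerConj F L g = 1) : g = 1 := by
  refine faithful F L hodd (fun v hv => by
    rw [← mem_centralizer_iff.mp hg v hv, mul_inv_cancel_right]) fun x hx => ?_
  have h1 := congrArg (fun σ : MulAut (LayerW F L) => σ (QuotientGroup.mk ⟨x, hx⟩)) h
  simp only [layerConj_mk, MulAut.one_apply] at h1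
  have h2 := QuotientGroup.eq.mp h1.symm
  rw [mem_subgroupOf] at h2
  simpa using h2

end quotient

end Cfsg.Agent.Lib.OneClassInvolutions
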