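import Cfsg.Agent.Lib.OneClassInvolutions.Layer
import Cfsg.Agent.S2904

/-!
Thompson: in a solvable group without odd core, with more than one involution and one class of
involutions, `O₂` is the Sylow `2`-subgroup.
-/

set_option autoImplicit false

namespace Cfsg.Agent.Lib.OneClassInvolutions

open Subgroup
open scoped Pointwise

/-- `2 ^ n - 1` does not divide `n!` for `n ≥ 2`. -/
theorem not_dvd_factorial {n : ℕ} (hn : 2 ≤ n) : ¬ 2 ^ n - 1 ∣ n.factorial := by
  intro h
  by_cases h6 : n = 6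
  · subst h6; exact absurd h (by decide)
  obtain ⟨r, hr, hrd, hrk⟩ := Cfsg.Agent.S2904.result 2 n (by omega) (by omega) (fun e => h6 e.2)
    (by
      rintro ⟨-, m, hm⟩
      rcases m with _ | m
      · simp at hm
      · rw [pow_succ] at hm; omega)
  have hrn : n < r := by
    have hr2 : r ≠ 2 := by
      rintro rfl
      have h2 : 2 ∣ 2 ^ n := dvd_pow_self 2 (by omega)
      have := Nat.one_le_two_pow (n := n)
      omega
    have hcop : Nat.Coprime 2 r := (Nat.coprime_primes Nat.prime_two hr).mpr (Ne.symm hr2)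
    have hfer : r ∣ 2 ^ (r - 1) - 1 := by
      have := Nat.ModEq.pow_totient hcop
      rw [Nat.totient_prime hr] at this
      exact (Nat.modEq_iff_dvd' Nat.one_le_two_pow).mp this.symm
    by_contra! hle
    have := hr.two_le
    exact hrk (r - 1) (by omega) (by omega) hfer
  have := (hr.dvd_factorial).mp (hrd.trans h)
  omega

section fixed

variable {G : Type*} [Group G] [Finite G] {A : Subgroup G} [A.Normal] (F : Frame G) (L : Layer A)
  (M₀ : Subgroup G) [Fintype M₀]

/-- The product of the conjugates under `M₀`. -/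
noncomputable def layerNorm : LayerW F L →* LayerW F L where
  toFun w := ∏ a : M₀, layerConj F L (a : G) w
  map_one' := Finset.prod_eq_one fun a _ => map_one _
  map_mul' w w' := by rw [← Finset.prod_mul_distrib]; exact Finset.prod_congr rfl fun a _ => map_mul _ w w'

theorem layerNorm_conj {g : G} (hg : g ∈ normalizer (M₀ : Set G)) (w : LayerW F L) :
    layerNorm F L M₀ (layerConj F L g w) = layerConj F L g (layerNorm F L M₀ w) := by
  show ∏ a : M₀, layerConj F L (a : G) (layerConj F L g w)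
    = layerConj F L g (∏ a : M₀, layerConj F L (a : G) w)
  rw [map_prod]
  let e : M₀ ≃ M₀ :=
    { toFun := fun a => ⟨g⁻¹ * a * g, (mem_normalizer_iff''.mp hg a).mp a.2⟩
      invFun := fun a => ⟨g * a * g⁻¹, (mem_normalizer_iff.mp hg a).mp a.2⟩
      left_inv := fun a => Subtype.ext (by simp [mul_assoc])
      right_inv := fun a => Subtype.ext (by simp [mul_assoc]) }
  refine Fintype.prod_equiv e _ _ fun a => ?_
  show layerConj F L (a : G) (layerConj F L g w) = layerConj F L g (layerConj F L (g⁻¹ * a * g) w)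
  rw [← MulAut.mul_apply, ← map_mul, ← MulAut.mul_apply, ← map_mul]
  congr 2
  group

theorem layerNorm_fixed {a : G} (ha : a ∈ M₀) (w : LayerW F L) :
    layerConj F L a (layerNorm F L M₀ w) = layerNorm F L M₀ w := by
  show layerConj F L a (∏ b : M₀, layerConj F L (b : G) w) = ∏ b : M₀, layerConj F L (b : G) w
  rw [map_prod]
  refine Fintype.prod_equiv (Equiv.mulLeft (⟨a, ha⟩ : M₀)) _ _ fun b => ?_
  show layerConj F L a (layerConj F L (b : G) w) = layerConj F L (a * b) w
  rw [map_mul, MulAut.mul_apply]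

theorem eq_one_of_fixed_mem_ker (hodd : Odd (Nat.card M₀)) {w : LayerW F L}
    (hw : w ∈ (layerNorm F L M₀).ker) (h : ∀ a ∈ M₀, layerConj F L a w = w) : w = 1 := by
  have h1 : ∏ a : M₀, layerConj F L (a : G) w = 1 := hw
  rw [Finset.prod_congr rfl fun (a : M₀) _ => h a a.2, Finset.prod_const, Finset.card_univ,
    ← Nat.card_eq_fintype_card] at h1
  obtain ⟨k, hk⟩ := hodd
  rwa [hk, pow_succ, pow_mul, pow_two, (layerForm F L).expW, one_pow, one_mul] at h1

theorem mem_ker_of_moved {a : G} (ha : a ∈ M₀) (w : LayerW F L) :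
    layerConj F L a w * w ∈ (layerNorm F L M₀).ker := by
  rw [MonoidHom.mem_ker, map_mul, layerNorm_conj F L M₀ (le_normalizer ha),
    layerNorm_fixed F L M₀ ha, (layerForm F L).expW]

/-- The normalizer of `M₀` acting on the kernel of the norm. -/
noncomputable def kerConj :
    (normalizer (M₀ : Set G) : Subgroup G) →* MulAut (layerNorm F L M₀).ker where
  toFun g :=
    { toFun := fun w => ⟨layerConj F L (g : G) w, by
        rw [MonoidHom.mem_ker, layerNorm_conj F L M₀ g.2, MonoidHom.mem_ker.mp w.2, map_one]⟩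
      invFun := fun w => ⟨layerConj F L ((g⁻¹ : (normalizer (M₀ : Set G) : Subgroup G)) : G) w, by
        rw [MonoidHom.mem_ker, layerNorm_conj F L M₀ (g⁻¹).2, MonoidHom.mem_ker.mp w.2, map_one]⟩
      left_inv := fun w => Subtype.ext (by
        show layerConj F L _ (layerConj F L _ _) = _
        rw [← MulAut.mul_apply, ← map_mul, InvMemClass.coe_inv, inv_mul_cancel, map_one]; rfl)
      right_inv := fun w => Subtype.ext (by
        show layerConj F L _ (layerConj F L _ _) = _
        rw [← MulAut.mul_apply, ← map_mul, InvMemClass.coe_inv, mul_inv_cancel, map_one]; rfl)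
      map_mul' := fun v w => Subtype.ext (map_mul (layerConj F L (g : G)) (v : LayerW F L) (w : LayerW F L)) }
  map_one' := MulEquiv.ext fun w => Subtype.ext (by
    show layerConj F L (((1 : (normalizer (M₀ : Set G) : Subgroup G))) : G) (w : LayerW F L) = _
    rw [OneMemClass.coe_one, map_one]; rfl)
  map_mul' g h := MulEquiv.ext fun w => Subtype.ext (by
    show layerConj F L ((g * h : (normalizer (M₀ : Set G) : Subgroup G)) : G) (w : LayerW F L) = _
    rw [Subgroup.coe_mul, map_mul, MulAut.mul_apply]; rfl)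

theorem kerConj_apply (g : (normalizer (M₀ : Set G) : Subgroup G)) (w : (layerNorm F L M₀).ker) :
    ((kerConj F L M₀ g w : (layerNorm F L M₀).ker) : LayerW F L) = layerConj F L (g : G) w := rfl

/-- Elements of `O₂` normalizing `M₀` act trivially. -/
theorem kerConj_eq_one (hodd : Odd (Nat.card M₀))
    (hM₀ : M₀ ≤ centralizer (invSub G : Set G))
    (d : (normalizer (M₀ : Set G) : Subgroup G)) (hd : (d : G) ∈ Cfsg.pCore 2 G) :
    kerConj F L M₀ d = 1 := by
  refine MulEquiv.ext fun w => Subtype.ext ?_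
  rw [kerConj_apply]
  show layerConj F L (d : G) (w : LayerW F L) = w
  obtain ⟨x, hx⟩ := QuotientGroup.mk'_surjective _ (w : LayerW F L)
  rw [QuotientGroup.mk'_apply] at hx
  set z := layerConj F L (d : G) (w : LayerW F L) * w with hz
  have hzker : z ∈ (layerNorm F L M₀).ker := by
    rw [MonoidHom.mem_ker, hz, map_mul, layerNorm_conj F L M₀ d.2, MonoidHom.mem_ker.mp w.2,
      map_one, one_mul]
  have hzmem : ((d : G) * x * (d : G)⁻¹ * (x : G)⁻¹) ∈ A := x.2.1.2.2.2 _ hd
  have hz0 : (d : G) * x * (d : G)⁻¹ * (x : G)⁻¹ ∈ layerQ0 F L :=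
    mul_mem ((layerQ0_normal F L).conj_mem _ x.2 _) (inv_mem x.2)
  have hzeq : z = QuotientGroup.mk ⟨_, hz0⟩ := by
    have e : (⟨_, hz0⟩ : layerQ0 F L) = MulAut.conjNormal (d : G) x * x⁻¹ :=
      Subtype.ext (by simp)
    rw [e, QuotientGroup.mk_mul, QuotientGroup.mk_inv, hz, ← hx, layerConj_mk]
    congr 1
    exact (inv_eq_of_mul_eq_one_right ((layerForm F L).expW _)).symm
  have hzfix : ∀ a ∈ M₀, layerConj F L a z = z := by
    intro a ha
    rw [hzeq, layerConj_mk]
    congr 1
    refine Subtype.ext ?_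
    rw [MulAut.conjNormal_apply]
    refine fix_abelian F L ?_ (fun v hv => ?_) _ hzmem
    · refine hodd.of_dvd_nat ?_
      rw [← orderOf_mk a ha]
      exact orderOf_dvd_natCard _
    · rw [← mem_centralizer_iff.mp (hM₀ ha) v hv, mul_inv_cancel_right]
  have h1 := eq_one_of_fixed_mem_ker F L M₀ hodd hzker hzfix
  rw [hz] at h1
  calc layerConj F L (d : G) (w : LayerW F L)
      = layerConj F L (d : G) (w : LayerW F L) * (w * w) := by rw [(layerForm F L).expW, mul_one]
    _ = w := by rw [← mul_assoc, h1, one_mul]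

end fixed

variable {G : Type*} [Group G] [Finite G]

/-- **Thompson.** `O₂` has odd index. -/
theorem Frame.not_two_dvd_index (F : Frame G) : ¬ 2 ∣ (Cfsg.pCore 2 G).index := by
  classical
  intro h2
  have : Fact (Nat.Prime 2) := ⟨Nat.prime_two⟩
  have := F.solv
  set P := Cfsg.pCore 2 G with hP
  have hPn : P.Normal := Cfsg.pCore_normal 2 G
  set C := centralizer (invSub G : Set G) with hC
  set π := QuotientGroup.mk' P with hπ
  have hπs : Function.Surjective π := QuotientGroup.mk'_surjective P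
  set Cb := C.map π with hCb
  have : Cb.Normal := Normal.map inferInstance π hπs
  have hCcomap : Cb.comap π = C := by
    rw [hCb, comap_map_eq, QuotientGroup.ker_mk', sup_eq_left.mpr Frame.pCore_le_centralizer]
  have hmemC : ∀ {g : G}, π g ∈ Cb → g ∈ C := fun {g} h => hCcomap ▸ h
  let ψ : G ⧸ P →* MulAut (invSub G) := QuotientGroup.lift P MulAut.conjNormal (fun p hp => by
    refine MulEquiv.ext fun v => Subtype.ext ?_
    show p * (v : G) * p⁻¹ = v
    rw [(mem_invSub.mp v.2).2.1 p hp, mul_inv_cancel_right])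
  have hψC : ∀ c ∈ Cb, ψ c = 1 := by
    rintro _ ⟨c, hc, rfl⟩
    refine MulEquiv.ext fun v => Subtype.ext ?_
    show c * (v : G) * c⁻¹ = v
    rw [← mem_centralizer_iff.mp hc v v.2, mul_inv_cancel_right]
  have hψ : ∀ (g : G) (v : invSub G), ((ψ (π g) v : invSub G) : G) = g * v * g⁻¹ := fun g v => rfl
  -- the number of involutions
  obtain ⟨n, hn⟩ : ∃ n, Nat.card (invSub G) = 2 ^ n :=
    IsPGroup.iff_card.mp ((Cores.pCore_isPGroup 2 G).to_le OneClassInvolutions.invSub_le)
  have hn2 : 2 ≤ n := by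
    obtain ⟨x, y, hxy, hx1, hx, hy1, hy⟩ := F.two
    have h3 : 3 ≤ Nat.card (invSub G) := by
      let f : Fin 3 → invSub G := ![1, ⟨x, F.mem_invSub_iff.mpr hx⟩, ⟨y, F.mem_invSub_iff.mpr hy⟩]
      have hf : Function.Injective f := by
        intro i j h
        fin_cases i <;> fin_cases j <;>
          simp_all [f, Subtype.ext_iff, eq_comm]
      simpa using Nat.card_le_card_of_injective f hf
    rw [hn] at h3
    rcases n with _ | _ | n
    · simp at h3
    · simp at h3
    · omega
  -- a Sylow 2-subgroup of the centralizer and its normalizer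
  have hCb2 : 2 ∣ Nat.card Cb := by
    have := F.two_dvd_relIndex h2
    rwa [← hC, ← hCcomap, PLength.relIndex_comap_mk'] at this
  obtain ⟨T⟩ : Nonempty (Sylow 2 Cb) := inferInstance
  set T' := (T : Subgroup Cb).map Cb.subtype with hT'
  set N := normalizer (T' : Set (G ⧸ P)) with hN
  have hNC : N ⊔ Cb = ⊤ := Sylow.normalizer_sup_eq_top T
  -- an odd Hall subgroup of the normalizer
  obtain ⟨H₀, hH₀, hH₀i⟩ := Coprime.exists_hall_of_solvable (G := N) (fun p => p ≠ 2)
  set H := H₀.map N.subtype with hH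
  have hHN : H ≤ N := map_subtype_le _
  have hHodd : Odd (Nat.card H) := by
    rw [hH, card_map_of_injective N.subtype_injective, Nat.odd_iff, ← Nat.two_dvd_ne_zero]
    exact fun h => hH₀ 2 Nat.prime_two h rfl
  obtain ⟨a, ha⟩ : ∃ a, H₀.index = 2 ^ a :=
    ⟨_, Nat.eq_prime_pow_of_unique_prime_dvd index_ne_zero_of_finite fun {d} hd hdd => by
      by_contra hd2; exact hH₀i d hd hdd hd2⟩
  -- transitivity
  letI : MulAction N (invSub G) := MulAction.compHom _ (ψ.comp N.subtype)
  have hNtrans : ∀ v w : invSub G, v ≠ 1 → w ≠ 1 → ∃ g : N, g • v = w := by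
    intro v w hv hw
    obtain ⟨g, hg⟩ := F.conj v w (fun e => hv (Subtype.ext e)) (mem_invSub.mp v.2).2.2
      (fun e => hw (Subtype.ext e)) (mem_invSub.mp w.2).2.2
    obtain ⟨x, hx, c, hc, hxc⟩ := mem_sup_of_normal_right.mp
      (show π g ∈ N ⊔ Cb from hNC ▸ mem_top _)
    refine ⟨⟨x, hx⟩, Subtype.ext ?_⟩
    show ((ψ x v : invSub G) : G) = w
    rw [← hg, ← hψ, ← hxc, map_mul, hψC c hc, mul_one]
  have horbit : ∀ v : invSub G, v ≠ 1 → MulAction.orbit N v = {w | w ≠ 1} := by
    intro v hv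
    ext w
    refine ⟨?_, fun hw => hNtrans v w hv hw⟩
    rintro ⟨g, rfl⟩ h
    exact hv ((ψ (g : G ⧸ P)).injective (h.trans (map_one _).symm))
  have hindex : ∀ v : invSub G, v ≠ 1 → (MulAction.stabilizer N v).index = 2 ^ n - 1 := by
    intro v hv
    rw [MulAction.index_stabilizer, horbit v hv,
      show {w : invSub G | w ≠ 1} = ({1} : Set (invSub G))ᶜ from rfl, Set.ncard_compl,
      Set.ncard_singleton, hn]
  have hHindex : ∀ v : invSub G, v ≠ 1 → 2 ^ n - 1 ∣ (MulAction.stabilizer N v).relIndex H₀ := by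
    intro v hv
    have h1 := index_dvd_of_le (inf_le_left : MulAction.stabilizer N v ⊓ H₀ ≤ MulAction.stabilizer N v)
    rw [← relIndex_mul_index (inf_le_right : MulAction.stabilizer N v ⊓ H₀ ≤ H₀), inf_relIndex_right,
      hindex v hv, ha] at h1
    refine Nat.Coprime.dvd_of_dvd_mul_right (Nat.Coprime.pow_right a ?_) h1
    rw [Nat.coprime_two_right, Nat.odd_iff]
    have : 2 ∣ 2 ^ n := dvd_pow_self 2 (by omega)
    have := Nat.one_le_two_pow (n := n)
    omega
  have hHtrans : ∀ v w : invSub G, v ≠ 1 → w ≠ 1 → ∃ g : N, g ∈ H₀ ∧ g • v = w := by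
    intro v w hv hw
    have hsub : MulAction.orbit H₀ v ⊆ MulAction.orbit N v := by
      rintro _ ⟨g, rfl⟩; exact ⟨(g : N), rfl⟩
    have heq : MulAction.orbit H₀ v = MulAction.orbit N v := by
      refine Set.eq_of_subset_of_ncard_le hsub ?_
      rw [← MulAction.index_stabilizer, ← MulAction.index_stabilizer, hindex v hv]
      refine Nat.le_of_dvd (Nat.pos_of_ne_zero index_ne_zero_of_finite) ?_
      convert hHindex v hv using 1
      rfl
    obtain ⟨g, hg⟩ : w ∈ MulAction.orbit H₀ v := by rw [heq, horbit v hv]; exact hw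
    exact ⟨(g : N), g.2, hg⟩
  -- the subgroup E
  let S : Set (Subgroup (G ⧸ P)) :=
    {E | E ≠ ⊥ ∧ E ≤ Cb ∧ H ≤ normalizer (E : Set (G ⧸ P)) ∧ ∀ e ∈ E, e * e = 1}
  have hSne : S.Nonempty := by
    have hT0 : (T : Subgroup Cb) ≠ ⊥ := T.ne_bot_of_dvd_card hCb2
    have hTp : IsPGroup 2 T' := T.2.map _
    have : Nontrivial T' := (nontrivial_iff_ne_bot _).mpr fun h => hT0 (by
      rwa [hT', map_eq_bot_iff_of_injective _ Cb.subtype_injective] at h)
    obtain ⟨z, hz, hz1⟩ := (bot_or_exists_ne_one _).resolve_left hTp.bot_lt_center.ne'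
    obtain ⟨y, hy, hy1, hy2⟩ := exists_order_two (A := T') hTp z.2 (fun e => hz1 (Subtype.ext e))
    let Z : Subgroup (G ⧸ P) :=
      { carrier := {x | x ∈ T' ∧ (∀ t ∈ T', t * x = x * t) ∧ x * x = 1}
        one_mem' := ⟨one_mem _, fun t _ => by simp, one_mul 1⟩
        mul_mem' := by
          rintro x y ⟨hx, hxc, hx2⟩ ⟨hy, hyc, hy2⟩
          refine ⟨mul_mem hx hy,
            fun t ht => by rw [← mul_assoc, hxc t ht, mul_assoc, hyc t ht, mul_assoc], ?_⟩
          calc x * y * (x * y) = x * (y * x) * y := by group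
            _ = x * (x * y) * y := by rw [hxc y hy]
            _ = (x * x) * (y * y) := by group
            _ = 1 := by rw [hx2, hy2, one_mul]
        inv_mem' := by
          rintro x ⟨hx, hxc, hx2⟩
          have e : x⁻¹ = x := inv_eq_of_mul_eq_one_right hx2
          rw [e]; exact ⟨hx, hxc, hx2⟩ }
    refine ⟨Z, fun h => hy1 (mem_bot.mp (h ▸ (show y ∈ Z from ⟨(zpowers_le).mpr z.2 hy, fun t ht => ?_, hy2⟩))),
      fun x hx => map_subtype_le _ hx.1, fun g hg => ?_, fun e he => he.2.2⟩
    · have hle : zpowers (z : G ⧸ P) ≤ centralizer {t} := (zpowers_le).mpr (by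
        rw [mem_centralizer_singleton_iff]
        exact (congrArg Subtype.val (mem_center_iff.mp hz ⟨t, ht⟩)).symm)
      exact (mem_centralizer_singleton_iff.mp (hle hy)).symm
    · have key : ∀ k : G ⧸ P, k ∈ N → ∀ x ∈ Z, k * x * k⁻¹ ∈ Z := by
        rintro k hk x ⟨hx, hxc, hx2⟩
        refine ⟨(mem_normalizer_iff.mp hk x).mp hx, fun t ht => ?_, ?_⟩
        · have h' := hxc _ ((mem_normalizer_iff''.mp hk t).mp ht)
          calc t * (k * x * k⁻¹) = k * ((k⁻¹ * t * k) * x) * k⁻¹ := by group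
            _ = k * (x * (k⁻¹ * t * k)) * k⁻¹ := by rw [h']
            _ = k * x * k⁻¹ * t := by group
        · calc k * x * k⁻¹ * (k * x * k⁻¹) = k * (x * x) * k⁻¹ := by group
            _ = 1 := by rw [hx2]; group
      refine mem_normalizer_iff.mpr fun x => ⟨key g (hHN hg) x, fun hx => ?_⟩
      have := key g⁻¹ (inv_mem (hHN hg)) _ hx
      simpa [mul_assoc] using this
  obtain ⟨E, ⟨hE0, hEC, hHE, hE2⟩, hEmin⟩ := Set.Finite.exists_minimal (Set.toFinite S) hSne
  -- the centralizer of E in H fixes the involutions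
  set H1 := H ⊓ centralizer (E : Set (G ⧸ P)) with hH1
  have hH1n : ∀ g ∈ H, ∀ k ∈ H1, g * k * g⁻¹ ∈ H1 := by
    intro g hg k hk
    refine ⟨H.mul_mem (H.mul_mem hg hk.1) (H.inv_mem hg), mem_centralizer_iff.mpr fun e he => ?_⟩
    have he' := (mem_normalizer_iff''.mp (hHE hg) e).mp he
    have h1 := mem_centralizer_iff.mp hk.2 _ he'
    calc e * (g * k * g⁻¹) = g * ((g⁻¹ * e * g) * k) * g⁻¹ := by group
      _ = g * (k * (g⁻¹ * e * g)) * g⁻¹ := by rw [h1]
      _ = g * k * g⁻¹ * e := by group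
  have hH1fix : ∀ k ∈ H1, ∀ v : invSub G, ψ k v = v := by
    suffices hex : ∃ v : invSub G, v ≠ 1 ∧ ∀ k ∈ H1, ψ k v = v by
      obtain ⟨v, hv, hfix⟩ := hex
      intro k hk w
      by_cases hw : w = 1
      · rw [hw, map_one]
      obtain ⟨g, hg, rfl⟩ := hHtrans v w hv hw
      have hgH : ((g : N) : G ⧸ P) ∈ H := ⟨g, hg, rfl⟩
      have h1 := hfix _ (hH1n _ (inv_mem hgH) k hk)
      show ψ k (ψ (g : G ⧸ P) v) = ψ (g : G ⧸ P) v
      rw [inv_inv] at h1
      rw [← MulAut.mul_apply, ← map_mul, show k * (g : G ⧸ P) = g * ((g : G ⧸ P)⁻¹ * k * g) by group,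
        map_mul, MulAut.mul_apply, h1]
    by_contra hno
    push Not at hno
    obtain ⟨e, he, he1⟩ := (bot_or_exists_ne_one _).resolve_left hE0
    obtain ⟨t, rfl⟩ := hπs e
    refine F.no_lift (U := H1.comap π) ?_ ?_ ?_ (t := t) ?_ ?_ ?_
    · intro p hp
      rw [mem_comap, show π p = 1 from (QuotientGroup.eq_one_iff p).mpr hp]
      exact one_mem _
    · rw [PLength.relIndex_comap_mk']
      exact hHodd.of_dvd_nat (card_dvd_of_le inf_le_left)
    · intro v hv hcomm
      by_contra hv1
      obtain ⟨k, hk, hkv⟩ := hno ⟨v, hv⟩ (fun h => hv1 (congrArg Subtype.val h))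
      obtain ⟨u, rfl⟩ := hπs k
      exact hkv (Subtype.ext (by rw [hψ]; exact mul_inv_eq_iff_eq_mul.mpr (hcomm u hk)))
    · exact fun ht => he1 ((QuotientGroup.eq_one_iff t).mpr ht)
    · refine (QuotientGroup.eq_one_iff (N := P) _).mp ?_
      show π (t * t) = 1
      rw [map_mul]; exact hE2 _ he
    · refine le_normalizer_comap π ?_
      show π t ∈ normalizer (H1 : Set (G ⧸ P))
      refine centralizer_le_normalizer _ (mem_centralizer_iff.mpr fun k hk => ?_)
      exact (mem_centralizer_iff.mp hk.2 _ he).symm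
  -- an odd elementary abelian normal subgroup inside the normal closure of E
  set K := normalClosure (E : Set (G ⧸ P)) with hK
  have hKC : K ≤ Cb := normalClosure_le_normal hEC
  have hK0 : K ≠ ⊥ := fun h => hE0 (le_bot_iff.mp (h ▸ subset_normalClosure))
  obtain ⟨s, M, hs, hMn, hM0, hMK, hMc, hMp, hMs⟩ :=
    Coprime.exists_normal_abelian_pgroup_le hK0 inferInstance
  have hs2 : s ≠ 2 := by
    rintro rfl
    have := Cores.le_pCore hMn hMp
    rw [Cores.pCore_quotient_pCore 2 G] at this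
    exact hM0 (le_bot_iff.mp this)
  have hMcomm : ∀ x ∈ M, ∀ y ∈ M, x * y = y * x := fun x hx y hy =>
    congrArg Subtype.val (hMc.is_comm.comm ⟨x, hx⟩ ⟨y, hy⟩)
  have hModd : Odd (Nat.card M) := by
    have : Fact s.Prime := ⟨hs⟩
    obtain ⟨k, hk⟩ := IsPGroup.iff_card.mp hMp
    rw [hk]; exact (hs.odd_of_ne_two hs2).pow
  -- its complement
  set U := M.comap π with hU
  have : U.Normal := hMn.comap _
  have hPU : P ≤ U := fun p hp => by
    rw [hU, mem_comap, show π p = 1 from (QuotientGroup.eq_one_iff p).mpr hp]; exact one_mem _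
  obtain ⟨k, hk⟩ := IsPGroup.iff_card.mp (Cores.pCore_isPGroup 2 G)
  have hrel : P.relIndex U = Nat.card M := PLength.relIndex_comap_mk' P M
  have hcop : (Nat.card (P.subgroupOf U)).Coprime (P.subgroupOf U).index := by
    rw [Nat.card_congr (subgroupOfEquivOfLe hPU).toEquiv, hk, show (P.subgroupOf U).index = _ from hrel]
    exact Nat.Coprime.pow_left _ (Nat.coprime_two_left.mpr hModd)
  obtain ⟨X₀, hX₀⟩ := exists_right_complement'_of_coprime hcop
  set M₀ := X₀.map U.subtype with hM₀
  have hM₀U : M₀ ≤ U := map_subtype_le _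
  have hsup : P ⊔ M₀ = U := by
    have := congrArg (Subgroup.map U.subtype) hX₀.sup_eq_top
    rwa [Subgroup.map_sup, subgroupOf_map_subtype, inf_eq_left.mpr hPU, ← MonoidHom.range_eq_map,
      range_subtype] at this
  have hM₀card : Nat.card M₀ = Nat.card M := by
    rw [hM₀, card_map_of_injective U.subtype_injective, ← hrel]
    exact hX₀.symm.index_eq_card.symm
  have hM₀odd : Odd (Nat.card M₀) := hM₀card ▸ hModd
  have hM₀C : M₀ ≤ C := fun x hx => hmemC (hKC (hMK (hM₀U hx)))
  have hMsurj : ∀ m ∈ M, ∃ x ∈ M₀, π x = m := by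
    intro m hm
    obtain ⟨g, rfl⟩ := hπs m
    obtain ⟨p, hp, x, hx, rfl⟩ := mem_sup_of_normal_left.mp (show g ∈ P ⊔ M₀ from hsup ▸ hm)
    exact ⟨x, hx, by rw [map_mul, show π p = 1 from (QuotientGroup.eq_one_iff p).mpr hp, one_mul]⟩
  -- the normalizer of the complement covers the quotient
  have hNs : Function.Surjective (π.comp (normalizer (M₀ : Set G)).subtype) := by
    intro γ
    obtain ⟨g, rfl⟩ := hπs γ
    have hcopM : (Nat.card P).Coprime (Nat.card M₀) := by
      rw [hk]; exact Nat.Coprime.pow_left _ (Nat.coprime_two_left.mpr hM₀odd)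
    obtain ⟨p, hp, hpg⟩ := Coprime.exists_conj_eq_of_le_sup (N := P) (H := M₀)
      (K := MulAut.conj g • M₀) (by rw [normalizer_eq_top]; exact le_top) hcopM
      (Or.inl inferInstance) (Nat.card_congr (equivSMul (MulAut.conj g) M₀).symm.toEquiv) (by
        rw [hsup]
        rintro _ ⟨x, hx, rfl⟩
        exact ‹U.Normal›.conj_mem x (hM₀U hx) g)
    refine ⟨⟨p⁻¹ * g, ?_⟩, ?_⟩
    · have e : MulAut.conj (p⁻¹ * g) • M₀ = M₀ := by
        rw [map_mul, mul_smul, ← hpg, smul_smul, ← map_mul, inv_mul_cancel, map_one, one_smul]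
      rw [mem_normalizer_iff]
      intro x
      conv_rhs => rw [← e]
      rw [mem_pointwise_smul_iff_inv_smul_mem]
      simp [MulAut.smul_def, mul_assoc]
    · show π (p⁻¹ * g) = π g
      rw [map_mul, map_inv, show π p = 1 from (QuotientGroup.eq_one_iff p).mpr hp, inv_one, one_mul]
  -- the layer and the action on the moved part
  obtain ⟨A, L⟩ := exists_layer (G := G)
  have := L.normal
  have := Fintype.ofFinite M₀
  set W1 := (layerNorm F L M₀).ker with hW1
  have hkerle : (π.comp (normalizer (M₀ : Set G)).subtype).ker ≤ (kerConj F L M₀).ker := by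
    intro d hd
    exact kerConj_eq_one F L M₀ hM₀odd hM₀C d ((QuotientGroup.eq_one_iff (N := P) (d : G)).mp hd)
  let φ : G ⧸ P →* MulAut W1 :=
    (π.comp (normalizer (M₀ : Set G)).subtype).liftOfSurjective hNs ⟨kerConj F L M₀, hkerle⟩
  have hφ : ∀ (g : (normalizer (M₀ : Set G) : Subgroup G)), φ (π (g : G)) = kerConj F L M₀ g :=
    fun g => MonoidHom.liftOfRightInverse_comp_apply _ _ (Function.rightInverse_surjInv hNs) ⟨kerConj F L M₀, hkerle⟩ g
  let q1 : W1 → invSub G := fun w => layerSq F L (w : LayerW F L)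
  have hq1 : AnisoForm q1 :=
    { expW := fun w => Subtype.ext ((layerForm F L).expW w)
      expT := (layerForm F L).expT
      aniso := fun w h => Subtype.ext ((layerForm F L).aniso w h)
      bil := fun x y z => (layerForm F L).bil x y z }
  have hqC : ∀ γ ∈ Cb, ∀ w, q1 (φ γ w) = q1 w := by
    intro γ hγ w
    obtain ⟨g, rfl⟩ := hNs γ
    show q1 (φ (π (g : G)) w) = q1 w
    rw [hφ]
    exact layerSq_conj F L (hmemC hγ) _
  have hfpf : ∀ w : W1, (∀ a ∈ M, φ a w = w) → w = 1 := by
    intro w hw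
    refine Subtype.ext (eq_one_of_fixed_mem_ker F L M₀ hM₀odd w.2 fun a ha => ?_)
    have h1 := hw (π a) (hM₀U ha)
    rw [hφ ⟨a, le_normalizer ha⟩] at h1
    exact congrArg Subtype.val h1
  have hW1ne : ∃ w : W1, w ≠ 1 := by
    have hM₀0 : M₀ ≠ ⊥ := fun h => hM0 (eq_bot_of_card_eq _ (by rw [← hM₀card, h, card_bot]))
    obtain ⟨a, ha, ha1⟩ := (bot_or_exists_ne_one _).resolve_left hM₀0
    have hne : layerConj F L a ≠ 1 := fun h => ha1 (layerConj_faithful F L
      (hM₀odd.of_dvd_nat (by rw [← orderOf_mk a ha]; exact orderOf_dvd_natCard _)) (hM₀C ha) h)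
    obtain ⟨w, hw⟩ : ∃ w, layerConj F L a w ≠ w := by
      by_contra! h
      exact hne (MulEquiv.ext h)
    refine ⟨⟨_, mem_ker_of_moved F L M₀ ha w⟩, fun h => hw ?_⟩
    have h' : layerConj F L a w * w = 1 := congrArg Subtype.val h
    calc layerConj F L a w = layerConj F L a w * (w * w) := by rw [(layerForm F L).expW, mul_one]
      _ = w := by rw [← mul_assoc, h', one_mul]
  have hker : ∀ e ∈ E, φ e = 1 → e = 1 := by
    intro e he hφe
    by_contra he1
    have hmem : E ⊓ φ.ker ∈ S := by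
      refine ⟨fun h => he1 (mem_bot.mp (h ▸ ⟨he, hφe⟩)), inf_le_left.trans hEC,
        fun g hg => ?_, fun x hx => hE2 x hx.1⟩
      rw [mem_normalizer_iff]
      intro x
      refine and_congr ((mem_normalizer_iff.mp (hHE hg)) x) ?_
      exact ⟨fun h => (inferInstance : φ.ker.Normal).conj_mem x h g, fun h => by
        have := (inferInstance : φ.ker.Normal).conj_mem _ h g⁻¹
        simpa [mul_assoc] using this⟩
    have hEker : E ≤ φ.ker := (hEmin hmem inf_le_left).trans inf_le_right
    obtain ⟨w, hw⟩ := hW1ne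
    refine hw (hfpf w fun a ha => ?_)
    have hak : φ a = 1 := MonoidHom.mem_ker.mp (normalClosure_le_normal hEker (hMK ha))
    rw [hak]; rfl
  have hcopW : (Nat.card M).Coprime (Nat.card W1) := by
    have hp2 : IsPGroup 2 W1 := fun w => ⟨1, by rw [pow_one, pow_two]; exact hq1.expW w⟩
    obtain ⟨j, hj⟩ := IsPGroup.iff_card.mp hp2
    rw [hj]
    exact Nat.Coprime.pow_right j (Nat.coprime_two_right.mpr hModd)
  obtain ⟨m, hm, hdvd⟩ := exists_coordinates (φ := φ) (A := M) hq1 (E := E) (H := H) hs hMcomm hMs hcopW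
    hfpf (by rw [normalizer_eq_top]; exact le_top) (by rw [normalizer_eq_top]; exact le_top) hHE hE2
    (fun a ha => hqC a (hKC (hMK ha))) (fun e he => hqC e (hEC he)) hker
  rw [hn] at hm
  have hmn : m ≤ n := (Nat.pow_le_pow_iff_right (by omega)).mp hm
  obtain ⟨v, hv, hv1⟩ := F.exists_mem_invSub
  have h1 := hHindex ⟨v, hv⟩ (fun e => hv1 (congrArg Subtype.val e))
  have h3 : (MulAction.stabilizer N (⟨v, hv⟩ : invSub G)).relIndex H₀ ∣
      (centralizer (E : Set (G ⧸ P))).relIndex H := by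
    rw [hH, ← relIndex_comap]
    refine index_dvd_of_le ?_
    intro g hg
    exact hH1fix _ ⟨⟨(g : N), g.2, rfl⟩, hg⟩ ⟨v, hv⟩
  exact not_dvd_factorial hn2 ((h1.trans h3).trans (hdvd.trans (Nat.factorial_dvd_factorial hmn)))

end Cfsg.Agent.Lib.OneClassInvolutions
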